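import Cfsg.Agent.Lib.CharDegree.TwoDegreesDerived
import Cfsg.Agent.Lib.CharDegree.Taketa
import Cfsg.Agent.S0887
import Mathlib.GroupTheory.Solvable

/-!
# Three character degrees: general lemmas
-/

namespace CfsgLib.ThreeDegrees

open CfsgLib.Char CfsgLib.CharDegree CfsgLib.Clifford
open scoped Classical ComplexConjugate commutatorElement

variable {G : Type*} [Group G]

/-- At most two degrees: the derived subgroup is abelian. -/
theorem derived_two_eq_bot [Finite G] {m : ℕ}
    (hdeg : ∀ χ : Cfsg.IrrCharacter G, Cfsg.charDegree (χ : G → ℂ) = 1 ∨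
      Cfsg.charDegree (χ : G → ℂ) = m) : derivedSeries G 2 = ⊥ := by
  have := Fintype.ofFinite G
  have hab : ∀ a ∈ commutator G, ∀ b ∈ commutator G, a * b = b * a := by
    by_cases hm : m = 1 ∨ ∀ χ : Cfsg.IrrCharacter G, Cfsg.charDegree (χ : G → ℂ) ≠ m
    · intro a _ b _
      refine comm_of_forall_linear (fun χ => ?_) a b
      rcases hdeg χ with h | h
      · exact h
      · rcases hm with h' | h'
        · rw [h, h']
        · exact absurd h (h' χ)
    · push Not at hm
      exact TwoDegrees.commutator_comm_of_two_degrees hdeg hm.2 hm.1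
  rw [derivedSeries_succ, derivedSeries_one, Subgroup.commutator_eq_bot_iff_le_centralizer]
  exact fun a ha => Subgroup.mem_centralizer_iff.mpr fun b hb => hab b hb a ha

theorem derived_three_of_two [Finite G] {m : ℕ}
    (hdeg : ∀ χ : Cfsg.IrrCharacter G, Cfsg.charDegree (χ : G → ℂ) = 1 ∨
      Cfsg.charDegree (χ : G → ℂ) = m) : derivedSeries G 3 = ⊥ :=
  le_bot_iff.mp ((derivedSeries_antitone G (by omega : 2 ≤ 3)).trans_eq (derived_two_eq_bot hdeg))

/-- Derived series of a normal subgroup containing the derived subgroup. -/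
theorem derived_succ_le_map (N : Subgroup G) (h : commutator G ≤ (commutator N).map N.subtype) :
    ∀ n, derivedSeries G (n + 1) ≤ (derivedSeries N (n + 1)).map N.subtype := by
  intro n
  induction n with
  | zero =>
    show derivedSeries G 1 ≤ (derivedSeries N 1).map N.subtype
    rw [derivedSeries_one, derivedSeries_one]
    exact h
  | succ n ih =>
    rw [derivedSeries_succ G (n + 1), derivedSeries_succ N (n + 1), Subgroup.map_commutator]
    exact Subgroup.commutator_mono ih ih

/-- An element in every kernel is trivial. -/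
theorem eq_one_of_mem_all_ker [Finite G] {x : G}
    (h : ∀ χ : Cfsg.IrrCharacter G, (χ : G → ℂ) x = (χ : G → ℂ) 1) : x = 1 := by
  have := Fintype.ofFinite G
  have := Fintype.ofFinite (Cfsg.IrrCharacter G)
  by_contra hne
  have hz := sum_degree_mul_apply_of_ne_one hne
  rw [Finset.sum_congr rfl (g := fun χ : Cfsg.IrrCharacter G => (χ : G → ℂ) 1 ^ 2)
    (fun χ _ => by rw [h χ, sq]), sum_sq_degree] at hz
  exact Nat.cast_ne_zero.mpr Nat.card_pos.ne' hz

/-- Monomial groups with three degrees have derived length at most three. -/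
theorem derived_three_of_monomial [Fintype G] {a b : ℕ} (hab : a < b)
    (hdeg : ∀ χ : Cfsg.IrrCharacter G, Cfsg.charDegree (χ : G → ℂ) = 1 ∨
      Cfsg.charDegree (χ : G → ℂ) = a ∨ Cfsg.charDegree (χ : G → ℂ) = b)
    (hmono : ∀ χ : Cfsg.IrrCharacter G, ∃ (H : Subgroup G) (lam : H →* ℂˣ),
      (χ : G → ℂ) = Cfsg.indFun H fun h => (lam h : ℂ)) :
    derivedSeries G 3 = ⊥ := by
  have step : ∀ (χ : Cfsg.IrrCharacter G) (D : Subgroup G) [D.Normal],
      (∀ ψ : Cfsg.IrrCharacter G, Cfsg.charDegree (ψ : G → ℂ) < Cfsg.charDegree (χ : G → ℂ) →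
        ∀ y ∈ D, (ψ : G → ℂ) y = (ψ : G → ℂ) 1) →
      ∀ x ∈ ⁅D, D⁆, (χ : G → ℂ) x = (χ : G → ℂ) 1 := by
    intro χ D _ hD
    obtain ⟨H, lam, hH⟩ := hmono χ
    have hidx : H.index = Cfsg.charDegree (χ : G → ℂ) := by
      have h1 := indFun_apply_one H (fun h => (lam h : ℂ))
      rw [← hH, ← cast_irrDegree, map_one, Units.val_one, mul_one] at h1
      exact_mod_cast h1.symm
    rw [hH]
    exact commutator_le_ker_of_induced H lam D fun ψ hψ => hD ψ (hidx ▸ hψ)
  have hlin : ∀ (χ : Cfsg.IrrCharacter G), Cfsg.charDegree (χ : G → ℂ) = 1 →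
      ∀ y ∈ derivedSeries G 1, (χ : G → ℂ) y = (χ : G → ℂ) 1 := fun χ h y hy =>
    le_ker_of_degree_one χ h (derivedSeries_one G ▸ hy)
  have htwo : ∀ (χ : Cfsg.IrrCharacter G), Cfsg.charDegree (χ : G → ℂ) < b →
      ∀ y ∈ derivedSeries G 2, (χ : G → ℂ) y = (χ : G → ℂ) 1 := by
    intro χ hχ y hy
    rcases hdeg χ with h | h | h
    · exact hlin χ h y (derivedSeries_antitone G (by omega : 1 ≤ 2) hy)
    · have := derivedSeries_normal G 1
      refine step χ (derivedSeries G 1) (fun ψ hψ z hz => hlin ψ ?_ z hz) y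
        (derivedSeries_succ G 1 ▸ hy)
      rcases hdeg ψ with h' | h' | h'
      · exact h'
      · omega
      · omega
    · omega
  rw [Subgroup.eq_bot_iff_forall]
  intro x hx
  refine eq_one_of_mem_all_ker fun χ => ?_
  rcases lt_or_ge (Cfsg.charDegree (χ : G → ℂ)) b with h | h
  · exact htwo χ h x (derivedSeries_antitone G (by omega : 2 ≤ 3) hx)
  · have := derivedSeries_normal G 2
    refine step χ (derivedSeries G 2) (fun ψ hψ => htwo ψ ?_) x (derivedSeries_succ G 2 ▸ hx)
    rcases hdeg χ with h' | h' | h'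
    · have := charDegree_pos ψ; omega
    · omega
    · omega

/-- Some character lies over a given one, and the degrees divide. -/
theorem exists_over [Fintype G] (N : Subgroup G) [N.Normal] [Fintype N] (ψ : Cfsg.IrrCharacter N) :
    ∃ χ : Cfsg.IrrCharacter G, Cfsg.classInner (fun n : N => (χ : G → ℂ) n) (ψ : N → ℂ) ≠ 0 := by
  have hne : Cfsg.indFun N (ψ : N → ℂ) ≠ 0 := fun h => by
    have h1 := congrFun h 1
    rw [indFun_apply_one, Pi.zero_apply, mul_eq_zero] at h1
    rcases h1 with h1 | h1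
    · exact Subgroup.index_ne_zero_of_finite (Nat.cast_eq_zero.mp h1)
    · exact IsIrr.apply_one_ne_zero ψ.2 h1
  obtain ⟨χ, hχ⟩ := exists_constituent (isClassFunction_indFun N _) hne
  rw [frobenius_reciprocity N _ (IsIrr.isClassFunction χ.2)] at hχ
  exact ⟨χ, fun h => hχ (by rw [← classInner_conj_symm, h, map_zero])⟩

theorem degree_dvd_of_over [Fintype G] (N : Subgroup G) [N.Normal] [Fintype N]
    (χ : Cfsg.IrrCharacter G) (ψ : Cfsg.IrrCharacter N)
    (h : Cfsg.classInner (fun n : N => (χ : G → ℂ) n) (ψ : N → ℂ) ≠ 0) :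
    Cfsg.charDegree (ψ : N → ℂ) ∣ Cfsg.charDegree (χ : G → ℂ) ∧
      Cfsg.charDegree (χ : G → ℂ) / Cfsg.charDegree (ψ : N → ℂ) ∣ N.index :=
  Cfsg.Agent.S0887.result N (χ : G → ℂ) χ.2 (ψ : N → ℂ) ψ.2 h _ _
    (cast_irrDegree χ).symm (cast_irrDegree ψ).symm

/-- Abelian normal subgroup with nilpotent quotient: monomial. -/
theorem isMonomial_of_abelian_nilpotent : ∀ {G : Type*} [Group G] [Fintype G]
    (N : Subgroup G) [N.Normal], (∀ a ∈ N, ∀ b ∈ N, a * b = b * a) → Group.IsNilpotent (G ⧸ N) →
    ∀ χ : G → ℂ, Cfsg.IsIrrCharacter G χ →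
      ∃ (H : Subgroup G) (lam : H →* ℂˣ), χ = Cfsg.indFun H fun h => (lam h : ℂ) := by
  intro G _ _ N _ hN hnil χ hχ
  induction hn : Nat.card G using Nat.strongRecOn generalizing G with
  | ind m ih =>
  obtain ⟨n, ρ, hρ, rfl⟩ := hχ
  by_cases h1 : Module.finrank ℂ (Fin n → ℂ) = 1
  · obtain ⟨l, hl⟩ := exists_linear_of_degree_one (isCharacter_rep ρ)
      (by rw [Representation.char_one, h1, Nat.cast_one])
    exact ⟨⊤, _, hl.trans (monomial_linear l)⟩
  obtain ⟨A, hA, hcomm, hns⟩ : ∃ A : Subgroup G, A.Normal ∧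
      (∀ a b : A, Commute (ρ (a : G)) (ρ (b : G))) ∧
      ¬ ∀ a : A, ∃ c : ℂ, ρ (a : G) = c • LinearMap.id := by
    by_cases hsc : ∀ a : N, ∃ c : ℂ, ρ (a : G) = c • LinearMap.id
    · refine exists_normal_commute_not_scalar ρ ?_ h1
      have hle : N ≤ (Subgroup.center (G ⧸ ρ.ker)).comap (QuotientGroup.mk' ρ.ker) := by
        intro x hx
        rw [Subgroup.mem_comap, Subgroup.mem_center_iff]
        intro q
        induction q using QuotientGroup.induction_on with
        | H g =>
          rw [QuotientGroup.mk'_apply, ← QuotientGroup.mk_mul, ← QuotientGroup.mk_mul,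
            QuotientGroup.eq, MonoidHom.mem_ker]
          obtain ⟨c, hc⟩ := hsc ⟨x, hx⟩
          have hcomm' : ρ (g * x) = ρ (x * g) := by
            rw [map_mul, map_mul, hc]
            exact LinearMap.ext fun v => map_smul (ρ g) c v
          rw [map_mul, ← hcomm', ← map_mul, inv_mul_cancel, map_one]
      have : Group.IsNilpotent (G ⧸ (N ⊔ ρ.ker)) :=
        Group.nilpotent_of_surjective (QuotientGroup.map N (N ⊔ ρ.ker) (MonoidHom.id G) le_sup_left)
          (fun q => by
            induction q using QuotientGroup.induction_on with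
            | H g => exact ⟨(g : G ⧸ N), rfl⟩)
      refine Subgroup.isNilpotent_of_ker_le_center
        (QuotientGroup.map ρ.ker (N ⊔ ρ.ker) (MonoidHom.id G) le_sup_right) ?_
      intro q hq
      induction q using QuotientGroup.induction_on with
      | H g =>
        obtain ⟨x, hx, k, hk, rfl⟩ :=
          Subgroup.mem_sup_of_normal_right.mp ((QuotientGroup.eq_one_iff g).mp hq)
        rw [QuotientGroup.mk_mul, (QuotientGroup.eq_one_iff k).mpr hk, mul_one]
        exact hle hx
    · exact ⟨N, inferInstance, fun a b =>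
        (show Commute (a : G) (b : G) from hN a a.2 b b.2).map ρ, hsc⟩
  obtain ⟨T, ψ, hT, -, hψ, he⟩ := exists_induced_of_not_scalar ρ A hcomm hns
  rw [he]
  have := Fintype.ofFinite T
  refine monomial_of_indFun T (ih (Nat.card T) ?_ (G := T) (N.subgroupOf T)
    (fun a ha b hb => Subtype.ext (hN a (Subgroup.mem_subgroupOf.mp ha) b
      (Subgroup.mem_subgroupOf.mp hb))) ?_ ψ hψ rfl)
  · rw [← hn, lt_iff_le_and_ne]
    exact ⟨T.card_le_card_group, fun h => hT (T.eq_top_of_card_eq h)⟩
  · let f : T ⧸ N.subgroupOf T →* G ⧸ N :=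
      QuotientGroup.map (N.subgroupOf T) N T.subtype (le_refl (N.comap T.subtype))
    have hf : Function.Injective f := by
      rw [injective_iff_map_eq_one]
      intro q
      induction q using QuotientGroup.induction_on with
      | H t =>
        intro ht
        exact (QuotientGroup.eq_one_iff t).mpr
          (Subgroup.mem_subgroupOf.mpr ((QuotientGroup.eq_one_iff (t : G)).mp ht))
    exact Subgroup.isNilpotent_of_ker_le_center f ((f.ker_eq_bot hf).trans_le bot_le)

end CfsgLib.ThreeDegrees
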