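import Cfsg.Agent.Lib.CharDegree.ThreeDegrees.Residual
import Cfsg.Agent.Lib.Char.Monomial

/-!
# The derived length for three coprime degrees
-/

namespace CfsgLib.ThreeDegrees

open CfsgLib.Char CfsgLib.CharDegree CfsgLib.Clifford CfsgLib.TwoDegrees
open scoped Classical ComplexConjugate commutatorElement

variable {Γ : Type*} [Group Γ] [Fintype Γ] {a b : ℕ}

/-- The structure of the top of the nilpotent residual. -/
theorem section_structure (hcop : a.Coprime b) (ha : 1 < a) (hb : 1 < b)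
    (hdeg : ∀ χ : Cfsg.IrrCharacter Γ, Cfsg.charDegree (χ : Γ → ℂ) = 1 ∨
      Cfsg.charDegree (χ : Γ → ℂ) = a ∨ Cfsg.charDegree (χ : Γ → ℂ) = b)
    {q : ℕ} [hq : Fact q.Prime] (Rb C₀ : Subgroup Γ) [hRn : Rb.Normal] (hne : Rb ≠ ⊥)
    (hab : ∀ x ∈ Rb, ∀ y ∈ Rb, x * y = y * x)
    (hmin : ∀ F : Subgroup Γ, F.Normal → F ≤ Rb → F = ⊥ ∨ F = Rb)
    (hnil : Group.IsNilpotent (Γ ⧸ Rb)) (hcen : ¬ Rb ≤ Subgroup.center Γ) (hRq : IsPGroup q Rb)
    (hsup : Rb ⊔ C₀ = ⊤) (hinf : Rb ⊓ C₀ = ⊥) :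
    ∃ C W : Subgroup Γ, C.Normal ∧ W.Normal ∧ Rb ≤ C ∧ W ≤ C ∧
      (∀ c ∈ C, ∃ r ∈ Rb, ∃ w ∈ W, c = r * w) ∧ Rb ⊓ W = ⊥ ∧
      (∀ x ∈ C, ∀ y ∈ C, x * y = y * x) ∧ (∀ h : C.Normal, IsCyclic (Γ ⧸ C)) ∧
      (∀ x, x ∉ C → ∀ r ∈ Rb, x * r * x⁻¹ = r → r = 1) ∧
      (C.index = a ∨ C.index = b) ∧ (Nat.card Rb).Coprime C.index := by
  set C := secCent Rb (⊥ : Subgroup Γ) with hC
  have hmemC : ∀ g : Γ, g ∈ C ↔ ∀ r ∈ Rb, g * r * g⁻¹ = r := fun g => by
    simp only [hC, mem_secCent, Subgroup.mem_bot, mul_inv_eq_one]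
  have hCn : C.Normal := secCent_normal Rb ⊥
  have hRC : Rb ≤ C := fun x hx => (hmemC x).mpr fun r hr => by
    rw [hab x hx r hr, mul_inv_cancel_right]
  have hmax : ∀ F : Subgroup Γ, F.Normal → ⊥ ≤ F → F ≤ Rb → F = ⊥ ∨ F = Rb :=
    fun F hF _ hle => hmin F hF hle
  set W := C ⊓ C₀ with hW
  have hWn : W.Normal := ⟨fun x hx g => by
    have hg : g ∈ Rb ⊔ C₀ := by rw [hsup]; exact Subgroup.mem_top g
    obtain ⟨r, hr, c, hc, rfl⟩ := Subgroup.mem_sup_of_normal_left.mp hg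
    have h1 : c * x * c⁻¹ ∈ W := ⟨hCn.conj_mem x hx.1 c, C₀.mul_mem (C₀.mul_mem hc hx.2) (C₀.inv_mem hc)⟩
    rw [show r * c * x * (r * c)⁻¹ = r * (c * x * c⁻¹) * r⁻¹ by group]
    have h2 : c * x * c⁻¹ * r = r * (c * x * c⁻¹) :=
      mul_inv_eq_iff_eq_mul.mp ((hmemC _).mp h1.1 r hr)
    rwa [← h2, mul_inv_cancel_right]⟩
  have hdec : ∀ c ∈ C, ∃ r ∈ Rb, ∃ w ∈ W, c = r * w := by
    intro g hg
    have hg' : g ∈ Rb ⊔ C₀ := by rw [hsup]; exact Subgroup.mem_top g
    obtain ⟨r, hr, c, hc, rfl⟩ := Subgroup.mem_sup_of_normal_left.mp hg'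
    exact ⟨r, hr, c, ⟨by simpa using C.mul_mem (C.inv_mem (hRC hr)) hg, hc⟩, rfl⟩
  have hRW : Rb ⊓ W = ⊥ := le_bot_iff.mp ((inf_le_inf_left Rb inf_le_right).trans_eq hinf)
  have hCne : C ≠ ⊤ := fun h => hcen fun r hr => Subgroup.mem_center_iff.mpr fun g =>
    mul_inv_eq_iff_eq_mul.mp ((hmemC g).mp (h ▸ Subgroup.mem_top g) r hr)
  -- a linear character of `Rb`
  let : CommGroup Rb := { (inferInstance : Group Rb) with
    mul_comm := fun x y => Subtype.ext (hab x x.2 y y.2) }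
  obtain ⟨v, hv, hv1⟩ := (Subgroup.bot_or_exists_ne_one Rb).resolve_left hne
  obtain ⟨lam, hlam⟩ := CommGroup.exists_apply_ne_one_of_hasEnoughRootsOfUnity Rb ℂ
    (a := ⟨v, hv⟩) (fun h => hv1 (congrArg Subtype.val h))
  have := Fintype.ofFinite Rb
  let θ : Cfsg.IrrCharacter Rb := ⟨fun n => (lam n : ℂ), isIrrCharacter_linear lam⟩
  set T := inertia hRn (θ : Rb → ℂ) with hT
  have hRT : Rb ≤ T := le_inertia hRn (IsIrr.isClassFunction θ.2)
  have hTinv : ∀ t ∈ T, ∀ n : Rb, lam ⟨t * n * t⁻¹, hRn.conj_mem n n.2 t⟩ = lam n :=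
    fun t ht n => Units.ext (congrFun (mem_inertia.mp ht) n)
  have hCT : C ≤ T := fun g hg => mem_inertia.mpr (funext fun n => by
    show (lam ⟨g * n * g⁻¹, _⟩ : ℂ) = lam n
    exact congrArg (fun z : Rb => (lam z : ℂ)) (Subtype.ext ((hmemC g).mp hg n n.2)))
  -- elements acting without fixed points are outside the inertia group
  have hout : ∀ z : Γ, (∀ r ∈ Rb, z * r * z⁻¹ * r⁻¹ ∈ (⊥ : Subgroup Γ) → r ∈ (⊥ : Subgroup Γ)) →
      z ∉ T := by
    intro z hz hzT
    obtain ⟨w, hw, hwv⟩ := surj_of_fpf hab hz v hv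
    rw [Subgroup.mem_bot, inv_mul_eq_one] at hwv
    apply hlam
    rw [show (⟨v, hv⟩ : Rb) = ⟨z * w * z⁻¹, hRn.conj_mem w hw z⟩ * (⟨w, hw⟩ : Rb)⁻¹ from
      Subtype.ext hwv.symm, map_mul, map_inv, hTinv z hzT ⟨w, hw⟩, mul_inv_cancel]
  -- the extension
  let π : C₀ →* Γ ⧸ Rb := (QuotientGroup.mk' Rb).comp C₀.subtype
  have hπ : Function.Bijective π := by
    refine ⟨(injective_iff_map_eq_one π).mpr fun y hy => ?_, fun x => ?_⟩
    · have h : (y : Γ) ∈ Rb ⊓ C₀ := ⟨(QuotientGroup.eq_one_iff _).mp hy, y.2⟩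
      rw [hinf, Subgroup.mem_bot] at h
      exact Subtype.ext h
    · induction x using QuotientGroup.induction_on with
      | H g =>
        have hg : g ∈ Rb ⊔ C₀ := by rw [hsup]; exact Subgroup.mem_top g
        obtain ⟨n, hn, y, hy, rfl⟩ := Subgroup.mem_sup_of_normal_left.mp hg
        exact ⟨⟨y, hy⟩, (show (y : Γ ⧸ Rb) = (n * y : Γ) by
          rw [QuotientGroup.mk_mul, (QuotientGroup.eq_one_iff n).mpr hn, one_mul])⟩
  let sec : Γ →* C₀ := (MulEquiv.ofBijective π hπ).symm.toMonoidHom.comp (QuotientGroup.mk' Rb)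
  have hsec : ∀ g : Γ, g * (sec g : Γ)⁻¹ ∈ Rb := fun g => by
    rw [← QuotientGroup.eq_one_iff, QuotientGroup.mk_mul, QuotientGroup.mk_inv, mul_inv_eq_one]
    exact ((MulEquiv.ofBijective π hπ).apply_symm_apply _).symm
  let μ : T →* ℂˣ := MonoidHom.mk' (fun t : T => lam ⟨(t : Γ) * (sec t : Γ)⁻¹, hsec t⟩) (by
    intro t u
    have hst : (sec t : Γ) ∈ T := by
      have h := T.mul_mem (T.inv_mem (hRT (hsec t))) t.2
      simpa [mul_assoc] using h
    rw [show (⟨((t * u : T) : Γ) * (sec ((t * u : T) : Γ) : Γ)⁻¹, hsec _⟩ : Rb) =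
      ⟨(t : Γ) * (sec t : Γ)⁻¹, hsec t⟩ * ⟨(sec t : Γ) * ((u : Γ) * (sec u : Γ)⁻¹) * (sec t : Γ)⁻¹,
        hRn.conj_mem _ (hsec u) _⟩ from Subtype.ext (by
          simp only [Subgroup.coe_mul, map_mul]; group),
      map_mul, hTinv _ hst ⟨_, hsec u⟩])
  have hμN : ∀ n : Rb, μ ⟨n, hRT n.2⟩ = lam n := fun n => by
    show lam _ = lam n
    congr 1
    refine Subtype.ext ?_
    show (n : Γ) * (sec n : Γ)⁻¹ = n
    rw [show sec n = 1 by
      show (MulEquiv.ofBijective π hπ).symm (QuotientGroup.mk' Rb n) = 1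
      rw [show QuotientGroup.mk' Rb (n : Γ) = 1 from (QuotientGroup.eq_one_iff _).mpr n.2, map_one],
      OneMemClass.coe_one, inv_one, mul_one]
  let NT := Rb.subgroupOf T
  -- the quotient by `C` is nilpotent and nontrivial
  have : Nontrivial (Γ ⧸ C) := by
    rw [← Finite.one_lt_card_iff_nontrivial, ← Subgroup.index_eq_card]
    exact Subgroup.one_lt_index_of_ne_top hCne
  have : Group.IsNilpotent (Γ ⧸ C) :=
    Group.nilpotent_of_surjective (QuotientGroup.map Rb C (MonoidHom.id Γ) hRC)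
      fun x => by
        induction x using QuotientGroup.induction_on with
        | H g => exact ⟨(g : Γ ⧸ Rb), rfl⟩
  obtain ⟨zq, hzq, hzne⟩ := (Subgroup.bot_or_exists_ne_one (Subgroup.center (Γ ⧸ C))).resolve_left
    (center_ne_bot_of_nilpotent (Γ ⧸ C))
  obtain ⟨z, rfl⟩ := QuotientGroup.mk_surjective zq
  have hzC : z ∉ C := fun h => hzne ((QuotientGroup.eq_one_iff z).mpr h)
  have hzcen : ∀ y : Γ, z⁻¹ * y⁻¹ * z * y ∈ C := by
    intro y
    rw [mul_assoc (z⁻¹ * y⁻¹), ← mul_inv_rev, ← QuotientGroup.eq, QuotientGroup.mk_mul,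
      QuotientGroup.mk_mul]
    exact Subgroup.mem_center_iff.mp hzq _
  have hzT : z ∉ T := hout z (fpf_of_central hmax bot_le hzcen hzC)
  have hT1 : 1 < T.index := Subgroup.one_lt_index_of_ne_top fun h => hzT (h ▸ Subgroup.mem_top z)
  have hlinT : ∀ β : Cfsg.IrrCharacter (T ⧸ NT),
      T.index * Cfsg.charDegree (β : T ⧸ NT → ℂ) = a ∨
      T.index * Cfsg.charDegree (β : T ⧸ NT → ℂ) = b := by
    intro β
    let ψ := twist (infl NT β) μ
    have hres : resTo hRT (ψ : T → ℂ) = (β : T ⧸ NT → ℂ) 1 • (θ : Rb → ℂ) := funext fun n => by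
      show (twist (infl NT β) μ : T → ℂ) ⟨n, hRT n.2⟩ = _
      rw [twist_apply, infl_ker NT β (Subgroup.mem_subgroupOf.mpr n.2), hμN]
      rw [infl_apply, QuotientGroup.mk_one]
      rfl
    have hirr := isIrr_indFun_of_over hRn θ.2 (fun g => mem_inertia) hRT ψ.2 (by
      rw [hres, classInner_smul_left, classInner_irr_self, mul_one]
      exact IsIrr.apply_one_ne_zero β.2)
    have hd : Cfsg.charDegree (Cfsg.indFun T (ψ : T → ℂ)) =
        T.index * Cfsg.charDegree (β : T ⧸ NT → ℂ) := charDegree_eq_of_apply_one (by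
      rw [indFun_apply_one, Nat.cast_mul, ← cast_irrDegree, charDegree_twist, charDegree_infl])
    rcases hdeg ⟨_, hirr⟩ with h | h | h
    · rw [show Cfsg.charDegree ((⟨_, hirr⟩ : Cfsg.IrrCharacter Γ) : Γ → ℂ) = _ from hd] at h
      have := Nat.eq_one_of_mul_eq_one_right h
      omega
    · exact Or.inl (hd.symm.trans h)
    · exact Or.inr (hd.symm.trans h)
  have hTi : T.index = a ∨ T.index = b := by
    have h := hlinT (trivChar (T ⧸ NT))
    rwa [show Cfsg.charDegree (trivChar (T ⧸ NT) : T ⧸ NT → ℂ) = 1 from charDegree_one,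
      mul_one] at h
  have hTab : ∀ x y : T ⧸ NT, x * y = y * x := comm_of_forall_linear fun β => by
    rcases hTi with ht | ht <;> rcases hlinT β with h | h <;> rw [ht] at h
    · exact (Nat.mul_eq_left (by omega)).mp h
    · have := Nat.eq_one_of_dvd_coprimes hcop dvd_rfl ⟨_, h.symm⟩
      omega
    · have := Nat.eq_one_of_dvd_coprimes hcop ⟨_, h.symm⟩ dvd_rfl
      omega
    · exact (Nat.mul_eq_left (by omega)).mp h
  -- the quotient is commutative
  let T' : Subgroup (Γ ⧸ C) := T.map (QuotientGroup.mk' C)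
  have hT'i : T'.index = T.index := Subgroup.index_map_eq _ (QuotientGroup.mk'_surjective C)
    (by rwa [QuotientGroup.ker_mk'])
  have hT'ab : ∀ x ∈ T', ∀ y ∈ T', x * y = y * x := by
    rintro _ ⟨t, ht, rfl⟩ _ ⟨u, hu, rfl⟩
    rw [← map_mul, ← map_mul]
    refine QuotientGroup.eq.mpr (hRC ?_)
    exact Subgroup.mem_subgroupOf.mp
      (QuotientGroup.eq.mp (hTab ((⟨t, ht⟩ : T) : T ⧸ NT) ((⟨u, hu⟩ : T) : T ⧸ NT)))
  let U : Subgroup (Γ ⧸ C) := T' ⊔ Subgroup.zpowers (z : Γ ⧸ C)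
  have hUab : ∀ x ∈ U, ∀ y ∈ U, x * y = y * x := by
    have hz : ∀ w : Γ ⧸ C, Commute (z : Γ ⧸ C) w := fun w =>
      (Subgroup.mem_center_iff.mp hzq w).symm
    have h1 : U ≤ Subgroup.centralizer (T' : Set (Γ ⧸ C)) := sup_le
      (fun u hu => Subgroup.mem_centralizer_iff.mpr fun w hw => hT'ab w hw u hu)
      (Subgroup.zpowers_le.mpr (Subgroup.mem_centralizer_iff.mpr fun w _ => (hz w).eq.symm))
    have h2 : U ≤ Subgroup.centralizer (U : Set (Γ ⧸ C)) := sup_le
      (Subgroup.le_centralizer_iff.mp h1)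
      (Subgroup.zpowers_le.mpr (Subgroup.mem_centralizer_iff.mpr fun w _ => (hz w).eq.symm))
    exact fun x hx y hy => (Subgroup.mem_centralizer_iff.mp (h2 hx) y hy).symm
  have hUidx : U.index < T.index := by
    rw [← hT'i]
    refine Subgroup.index_strictAnti (lt_of_le_of_ne le_sup_left fun h => hzT ?_)
    have hz' : (z : Γ ⧸ C) ∈ T' := h.symm ▸ le_sup_right (a := T') (Subgroup.mem_zpowers _)
    obtain ⟨t, ht, htz⟩ := hz'
    have h2 := T.mul_mem ht (hCT (QuotientGroup.eq.mp htz))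
    rwa [mul_inv_cancel_left] at h2
  have hqab : ∀ x y : Γ ⧸ C, x * y = y * x := comm_of_forall_linear fun ψ => by
    by_contra hψ
    have hd : Cfsg.charDegree (ψ : Γ ⧸ C → ℂ) = a ∨ Cfsg.charDegree (ψ : Γ ⧸ C → ℂ) = b := by
      have h := hdeg (infl C ψ)
      rw [charDegree_infl] at h
      exact h.resolve_left hψ
    have hle := degree_le_index ψ U hUab
    have hsame : (Cfsg.charDegree (ψ : Γ ⧸ C → ℂ)).Coprime T.index := by
      rcases hd with hd | hd <;> rcases hTi with ht | ht <;> rw [hd, ht]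
      · omega
      · exact hcop
      · exact hcop.symm
      · omega
    obtain ⟨r, hr, hrd⟩ := Nat.exists_prime_and_dvd hψ
    have := Fact.mk hr
    let P : Sylow r (Γ ⧸ C) := default
    have hPT : (P : Subgroup (Γ ⧸ C)) ≤ T' := by
      rw [← Subgroup.relIndex_eq_one]
      obtain ⟨i, hi⟩ := P.2.exists_card_eq
      obtain ⟨j, -, hj⟩ := (Nat.dvd_prime_pow hr).mp
        (hi ▸ (T'.subgroupOf (P : Subgroup (Γ ⧸ C))).index_dvd_card)
      change T'.relIndex (P : Subgroup (Γ ⧸ C)) = _ at hj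
      have hco : (T'.relIndex (P : Subgroup (Γ ⧸ C))).Coprime
          ((P : Subgroup (Γ ⧸ C)).relIndex T') := by
        rw [hj]
        exact ((hr.coprime_iff_not_dvd.mpr fun h => P.not_dvd_index
          (h.trans (Subgroup.relIndex_dvd_index_of_normal _ _))).pow_left j)
      have h1 : T'.relIndex (P : Subgroup (Γ ⧸ C)) ∣ T.index := by
        rw [← hT'i]
        refine hco.dvd_of_dvd_mul_left ?_
        rw [← Subgroup.inf_relIndex_left (H := T') (K := (P : Subgroup (Γ ⧸ C))),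
          Subgroup.relIndex_mul_index inf_le_left, ← Subgroup.relIndex_mul_index
          (inf_le_right : T' ⊓ (P : Subgroup (Γ ⧸ C)) ≤ _), Subgroup.inf_relIndex_right]
        exact dvd_mul_right _ _
      rw [hj] at h1 ⊢
      rcases Nat.eq_zero_or_pos j with rfl | hj0
      · exact pow_zero r
      · exact absurd (Nat.eq_one_of_dvd_coprimes hsame hrd ((dvd_pow_self r hj0.ne').trans h1))
          hr.ne_one
    have hd1 := degree_dvd_index ψ (P : Subgroup (Γ ⧸ C)) fun x hx y hy =>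
      hT'ab x (hPT hx) y (hPT hy)
    exact P.not_dvd_index (hrd.trans hd1)
  have hcomm : ∀ x y : Γ, x⁻¹ * y⁻¹ * x * y ∈ C := by
    intro x y
    rw [mul_assoc (x⁻¹ * y⁻¹), ← mul_inv_rev, ← QuotientGroup.eq, QuotientGroup.mk_mul,
      QuotientGroup.mk_mul]
    exact hqab _ _
  have hfp := fpf_of_maximal hmax bot_le hcomm
  have hTC : T = C := le_antisymm (fun x hx => by
    by_contra hxC
    exact hout x (hfp x hxC) hx) hCT
  have hCab : ∀ x ∈ C, ∀ y ∈ C, x * y = y * x := by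
    intro x hx y hy
    obtain ⟨r, hr, w, hw, rfl⟩ := hdec x hx
    obtain ⟨r', hr', w', hw', rfl⟩ := hdec y hy
    have e1 : ∀ r ∈ Rb, ∀ w ∈ W, Commute r w := fun r hr w hw =>
      (mul_inv_eq_iff_eq_mul.mp ((hmemC w).mp hw.1 r hr)).symm
    have e2 : Commute w w' := by
      have hmem : (w * w')⁻¹ * (w' * w) ∈ Rb ⊓ W := ⟨Subgroup.mem_subgroupOf.mp
        (QuotientGroup.eq.mp (hTab ((⟨w, hCT hw.1⟩ : T) : T ⧸ NT) ((⟨w', hCT hw'.1⟩ : T) : T ⧸ NT))),
        W.mul_mem (W.inv_mem (W.mul_mem hw hw')) (W.mul_mem hw' hw)⟩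
      rw [hRW, Subgroup.mem_bot, inv_mul_eq_one] at hmem
      exact hmem
    exact ((show Commute r r' from hab r hr r' hr').mul_right (e1 r hr w' hw')).mul_left
      ((e1 r' hr' w hw).symm.mul_right e2)
  refine ⟨C, W, hCn, hWn, hRC, inf_le_left, hdec, hRW, hCab,
    fun _ => isCyclic_of_maximal hab hmax (bot_lt_iff_ne_bot.mpr hne) hcomm,
    fun x hx r hr h => Subgroup.mem_bot.mp (hfp x hx r hr (by
      rw [Subgroup.mem_bot, h, mul_inv_cancel])), hTC ▸ hTi, ?_⟩
  refine Nat.coprime_of_dvd fun s hs h1 h2 => ?_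
  obtain ⟨j, hj⟩ := hRq.exists_card_eq
  rw [hj] at h1
  have hsq : s = q := (Nat.prime_dvd_prime_iff_eq hs hq.out).mp (hs.dvd_of_dvd_pow h1)
  subst hsq
  let P : Sylow s Γ := default
  obtain ⟨x, hx, hxC⟩ := SetLike.not_le_iff_exists.mp
    fun hle : (P : Subgroup Γ) ≤ C => P.not_dvd_index (h2.trans (Subgroup.index_dvd_of_le hle))
  obtain ⟨r, hr, hr1, hrfix⟩ := exists_fixed Rb (P : Subgroup Γ) hRq P.2 hne
  exact hr1 (Subgroup.mem_bot.mp (hfp x hxC r hr (by
    rw [Subgroup.mem_bot, hrfix x hx, mul_inv_cancel])))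

/-- Solvable groups with three coprime degrees. -/
theorem derived_three_of_coprime {G : Type*} [Group G] [Fintype G] [Group.IsSolvable G]
    (hab : a < b) (ha : 1 < a) (hcop : a.Coprime b)
    (hdeg : ∀ χ : Cfsg.IrrCharacter G, Cfsg.charDegree (χ : G → ℂ) = 1 ∨
      Cfsg.charDegree (χ : G → ℂ) = a ∨ Cfsg.charDegree (χ : G → ℂ) = b) :
    derivedSeries G 3 = ⊥ := by
  by_cases hnil : Group.IsNilpotent G
  · exact derived_three_of_monomial hab hdeg fun χ =>
      Clifford.isMonomial_of_isNilpotent (χ : G → ℂ) χ.2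
  obtain ⟨L, hL, Rb, C₀, hRn, q, hq, hne, habR, hmin, hnilq, hcen, hRq, hsup, hinf⟩ :=
    exists_complemented_factor (G := G) hnil
  have := Fintype.ofFinite (G ⧸ L)
  obtain ⟨C, W, hCn, hWn, hRC, hWC, hdec, hRW, hCab, hcyc, hfp, hidx, hcopR⟩ :=
    section_structure hcop ha (by omega)
      (fun ψ => by simpa only [charDegree_infl] using hdeg (infl L ψ))
      Rb C₀ hne habR hmin hnilq hcen hRq hsup hinf
  set N₀ : Subgroup G := C.comap (QuotientGroup.mk' L) with hN₀
  have hN₀n : N₀.Normal := hCn.comap _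
  have := Fintype.ofFinite N₀
  have hN₀i : N₀.index = C.index :=
    Subgroup.index_comap_of_surjective _ (QuotientGroup.mk'_surjective L)
  have hcyc0 : IsCyclic (G ⧸ N₀) := by
    have := hcyc hCn
    refine isCyclic_of_injective (QuotientGroup.map N₀ C (QuotientGroup.mk' L) le_rfl) ?_
    rw [injective_iff_map_eq_one]
    intro x
    induction x using QuotientGroup.induction_on with
    | H g =>
      intro hg
      exact (QuotientGroup.eq_one_iff g).mpr ((QuotientGroup.eq_one_iff (g : G ⧸ L)).mp hg)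
  -- the other degree
  obtain ⟨y, hy1, hxy, hcases⟩ : ∃ y, y ≠ 0 ∧ (C.index).Coprime y ∧
      ∀ n : ℕ, (n = 1 ∨ n = a ∨ n = b) → n = 1 ∨ n = C.index ∨ n = y := by
    rcases hidx with h | h
    · exact ⟨b, by omega, h ▸ hcop, fun n hn => h ▸ hn⟩
    · exact ⟨a, by omega, h ▸ hcop.symm, fun n hn => h ▸ hn.imp_right Or.symm⟩
  have htwo : ∀ ψ : Cfsg.IrrCharacter N₀, Cfsg.charDegree (ψ : N₀ → ℂ) = 1 ∨
      Cfsg.charDegree (ψ : N₀ → ℂ) = y := by
    -- the degree of the inertia quotient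
    have key : ∀ ψ : Cfsg.IrrCharacter N₀,
        (Cfsg.charDegree (ψ : N₀ → ℂ) = 1 ∨ Cfsg.charDegree (ψ : N₀ → ℂ) = y) ∨
        (inertia hN₀n (ψ : N₀ → ℂ)).index * Cfsg.charDegree (ψ : N₀ → ℂ) = C.index := by
      intro ψ
      obtain ⟨χ, hχ⟩ := exists_degree_eq N₀ hcyc0 ψ
      have h := hcases _ (hdeg χ)
      rw [hχ] at h
      rcases h with h | h | h
      · exact Or.inl (Or.inl (Nat.eq_one_of_mul_eq_one_left h))
      · exact Or.inr h
      · refine Or.inl (Or.inr ?_)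
        have h1 : (inertia hN₀n (ψ : N₀ → ℂ)).index = 1 := Nat.eq_one_of_dvd_coprimes hxy
          (hN₀i ▸ Subgroup.index_dvd_of_le (le_inertia hN₀n (IsIrr.isClassFunction ψ.2))) ⟨_, h.symm⟩
        rwa [h1, one_mul] at h
    intro ψ
    by_contra hψ
    push Not at hψ
    have ht := (key ψ).resolve_left (fun h => h.elim hψ.1 hψ.2)
    -- a fixing element outside
    have hTne : ¬ inertia hN₀n (ψ : N₀ → ℂ) ≤ N₀ := fun hle => hψ.1 (by
      rw [le_antisymm hle (le_inertia hN₀n (IsIrr.isClassFunction ψ.2)), hN₀i] at ht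
      exact (Nat.mul_eq_left Subgroup.index_ne_zero_of_finite).mp ht)
    obtain ⟨g, hg, hgN⟩ := SetLike.not_le_iff_exists.mp hTne
    let : CommGroup C := { (inferInstance : Group C) with
      mul_comm := fun x y => Subtype.ext (hCab x x.2 y y.2) }
    let φ : N₀ →* C := (QuotientGroup.mk' L).subgroupComap C
    set gL := (g : G ⧸ L) with hgL
    have hgC : gL ∉ C := hgN
    have hvan : ∀ c : N₀, ((c : G) : G ⧸ L) ∉ W → (ψ : N₀ → ℂ) c = 0 := by
      intro c hc
      by_contra h0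
      apply hc
      set cL : C := φ c with hcL
      have hcgL : gL * (cL : G ⧸ L) * gL⁻¹ = (cL : G ⧸ L) := by
        by_contra hne'
        obtain ⟨l, hl⟩ := CommGroup.exists_apply_ne_one_of_hasEnoughRootsOfUnity C ℂ
          (a := ⟨gL * (cL : G ⧸ L) * gL⁻¹, hCn.conj_mem _ cL.2 gL⟩ * cL⁻¹)
          (fun h => hne' (congrArg Subtype.val (mul_inv_eq_one.mp h)))
        have hdt := charDegree_twist ψ (l.comp φ)
        have hd2 := (key (twist ψ (l.comp φ))).resolve_left (by rw [hdt]; exact fun h => h.elim hψ.1 hψ.2)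
        rw [hdt, ← ht] at hd2
        have hsame : g ∈ inertia hN₀n ((twist ψ (l.comp φ) : Cfsg.IrrCharacter N₀) : N₀ → ℂ) := by
          rw [eq_of_index_eq hcyc0 (le_inertia hN₀n (IsIrr.isClassFunction (twist ψ (l.comp φ)).2))
            (le_inertia hN₀n (IsIrr.isClassFunction ψ.2))
            (Nat.eq_of_mul_eq_mul_right (charDegree_pos ψ) hd2)]
          exact hg
        have h1 := congrFun (mem_inertia.mp hsame) c
        have h2 := congrFun (mem_inertia.mp hg) c
        simp only [conjFn_apply] at h1 h2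
        rw [twist_apply, twist_apply, h2] at h1
        apply hl
        rw [map_mul, map_inv, mul_inv_eq_one]
        exact Units.ext (mul_left_cancel₀ h0 h1)
      obtain ⟨r, hr, w, hw, hrw⟩ := hdec _ cL.2
      have hr1 : r = 1 := by
        refine hfp gL hgC r hr ?_
        have h1 : (gL * r * gL⁻¹) * (gL * w * gL⁻¹) = r * w := by
          rw [← hrw, show (gL * r * gL⁻¹) * (gL * w * gL⁻¹) = gL * (r * w) * gL⁻¹ by group, ← hrw]
          exact hcgL
        have h2 : r⁻¹ * (gL * r * gL⁻¹) ∈ Rb ⊓ W := by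
          refine ⟨Rb.mul_mem (Rb.inv_mem hr) (hRn.conj_mem r hr gL), ?_⟩
          rw [show r⁻¹ * (gL * r * gL⁻¹) =
            r⁻¹ * ((gL * r * gL⁻¹) * (gL * w * gL⁻¹)) * (gL * w * gL⁻¹)⁻¹ by group, h1,
            inv_mul_cancel_left]
          exact W.mul_mem hw (W.inv_mem (hWn.conj_mem w hw gL))
        rw [hRW, Subgroup.mem_bot, inv_mul_eq_one] at h2
        exact h2.symm
      rw [hr1, one_mul] at hrw
      show (cL : G ⧸ L) ∈ W
      rw [hrw]
      exact hw
    -- restriction to the preimage of `W`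
    set N : Subgroup N₀ := (W.comap (QuotientGroup.mk' L)).subgroupOf N₀ with hNdef
    have hNn : N.Normal := by
      have := hWn.comap (QuotientGroup.mk' L)
      infer_instance
    have := Fintype.ofFinite N
    have := Fintype.ofFinite (Cfsg.IrrCharacter N)
    have hNidx : N.index = Nat.card Rb := by
      have e : N = (W.subgroupOf C).comap φ := by ext; rfl
      have hφs : Function.Surjective φ := by
        rintro ⟨x, hx⟩
        obtain ⟨g', rfl⟩ := QuotientGroup.mk'_surjective L x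
        exact ⟨⟨g', hx⟩, rfl⟩
      rw [e, Subgroup.index_comap_of_surjective _ hφs]
      refine (Subgroup.IsComplement'.index_eq_card (K := W.subgroupOf C) (H := Rb.subgroupOf C)
        (Subgroup.isComplement'_of_disjoint_and_mul_eq_univ ?_ ?_)).trans
        (Nat.card_congr (Subgroup.subgroupOfEquivOfLe hRC).toEquiv)
      · rw [disjoint_iff, Subgroup.eq_bot_iff_forall]
        intro x hx
        have : (x : G ⧸ L) ∈ Rb ⊓ W := ⟨hx.1, hx.2⟩
        rw [hRW, Subgroup.mem_bot] at this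
        exact Subtype.ext this
      · refine Set.eq_univ_of_forall fun x => ?_
        obtain ⟨r, hr, w, hw, hx⟩ := hdec x x.2
        exact ⟨⟨r, hRC hr⟩, hr, ⟨w, hWC hw⟩, hw, Subtype.ext hx.symm⟩
    obtain ⟨ν, hν⟩ := exists_constituent (IsChar.isClassFunction
      (IsChar.restrict N (IsIrr.isCharacter ψ.2))) fun h =>
      IsIrr.apply_one_ne_zero ψ.2 (congrFun h 1)
    obtain ⟨k, hk⟩ := IsChar.classInner_eq_natCast (IsChar.restrict N (IsIrr.isCharacter ψ.2))
      (IsIrr.isCharacter ν.2)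
    have hdeq := degree_eq hNn ν.2 ψ.2 hν
    rw [hk, ← cast_irrDegree, ← cast_irrDegree] at hdeq
    have hdeq' : Cfsg.charDegree (ψ : N₀ → ℂ) =
        k * (inertia hNn (ν : N → ℂ)).index * Cfsg.charDegree (ν : N → ℂ) := by exact_mod_cast hdeq
    have hnorm : (N.index : ℂ) = (k : ℂ) * (k * (inertia hNn (ν : N → ℂ)).index) := by
      have hself : Cfsg.classInner (fun n : N => (ψ : N₀ → ℂ) n) (fun n : N => (ψ : N₀ → ℂ) n) =
          N.index := by
        have h1 := classInner_irr_self ψ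
        rw [Cfsg.classInner, ← Finset.sum_subset
          (Finset.subset_univ (Finset.univ.filter fun c : N₀ => c ∈ N))
          (fun c _ hc => by
            rw [hvan c (fun h => hc (Finset.mem_filter.mpr ⟨Finset.mem_univ _, h⟩)), zero_mul]),
          Finset.sum_subtype (Finset.univ.filter fun c : N₀ => c ∈ N) (p := fun c => c ∈ N)
            (by simp),
          inv_mul_eq_iff_eq_mul₀ (Nat.cast_ne_zero.mpr Nat.card_pos.ne'), mul_one] at h1
        rw [Cfsg.classInner]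
        show (Nat.card N : ℂ)⁻¹ * ∑ c : N, (ψ : N₀ → ℂ) c * conj ((ψ : N₀ → ℂ) c) = _
        rw [h1, ← N.card_mul_index, Nat.cast_mul, ← mul_assoc,
          inv_mul_cancel₀ (Nat.cast_ne_zero.mpr Nat.card_pos.ne'), one_mul]
      rw [← hself, restrict_eq_smul_orbit_sum hNn ψ.2 ν.2 hν, classInner_smul_left,
        classInner_smul_right, hk, Complex.conj_natCast, classInner_sum_left,
        Finset.sum_congr rfl (g := fun _ => (1 : ℂ)) fun f hf => ?_, Finset.sum_const, nsmul_one]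
      · congr 3
        convert card_orbit hNn (ν : N → ℂ)
      · obtain ⟨h, -, rfl⟩ := Finset.mem_image.mp hf
        have hirr := isIrrCharacter_conjFn hNn ν.2 h
        rw [classInner_sum_right, Finset.sum_eq_single_of_mem _ hf fun f' hf' hne' => by
          obtain ⟨h', -, rfl⟩ := Finset.mem_image.mp hf'
          rw [classInner_irr ⟨_, hirr⟩ ⟨_, isIrrCharacter_conjFn hNn ν.2 h'⟩,
            if_neg fun e => hne' (congrArg Subtype.val e).symm]]
        exact classInner_irr_self ⟨_, hirr⟩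
    have hnorm' : N.index = k * (k * (inertia hNn (ν : N → ℂ)).index) := by exact_mod_cast hnorm
    have hdvd : k * (inertia hNn (ν : N → ℂ)).index = 1 := Nat.eq_one_of_dvd_coprimes hcopR
      (hNidx ▸ hnorm' ▸ dvd_mul_left _ _) (ht ▸ hdeq' ▸ ((dvd_mul_right _ _).mul_left _))
    rw [hdvd, Nat.eq_one_of_mul_eq_one_right hdvd, one_mul, hNidx] at hnorm'
    exact absurd (Subgroup.card_eq_one.mp hnorm') hne
  have hle : commutator G ≤ N₀ := by
    have := hcyc0
    rw [commutator_def, Subgroup.commutator_le]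
    intro x _ z _
    rw [← QuotientGroup.eq_one_iff, commutatorElement_def]
    simp only [QuotientGroup.mk_mul, QuotientGroup.mk_inv]
    rw [mul_comm' (x : G ⧸ N₀) z]
    group
  have h2 : derivedSeries N₀ 2 = ⊥ := derived_two_eq_bot htwo
  have e1 : derivedSeries G 2 ≤ (derivedSeries N₀ 1).map N₀.subtype := by
    rw [derivedSeries_succ G 1, derivedSeries_one, derivedSeries_one, commutator_def N₀,
      Subgroup.map_commutator, ← MonoidHom.range_eq_map, Subgroup.range_subtype]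
    exact Subgroup.commutator_mono hle hle
  rw [← le_bot_iff, derivedSeries_succ G 2]
  refine (Subgroup.commutator_mono e1 e1).trans ?_
  rw [← Subgroup.map_commutator, ← derivedSeries_succ N₀ 1, h2, Subgroup.map_bot]

end CfsgLib.ThreeDegrees
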