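import Cfsg.Agent.Lib.CharDegree.ThreeDegrees.Solvable
import Cfsg.Agent.Lib.CharDegree.ThreeDegrees.CoprimeDerived

/-!
# Three character degrees: derived length at most three
-/

namespace CfsgLib.ThreeDegrees

open CfsgLib.Char CfsgLib.CharDegree CfsgLib.Clifford CfsgLib.TwoDegrees
open scoped Classical ComplexConjugate commutatorElement

universe u

theorem ordCompl_eq {p d n : ℕ} (hp : p.Prime) (hd : ¬ p ∣ d) (hdn : d ∣ n) {k : ℕ}
    (hk : n / d ∣ p ^ k) : d = n / p ^ n.factorization p := by
  obtain ⟨j, -, hj⟩ := (Nat.dvd_prime_pow hp).mp hk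
  have hd0 : d ≠ 0 := fun h => hd (h ▸ dvd_zero p)
  have hn : n = d * p ^ j := by rw [← hj, Nat.mul_div_cancel' hdn]
  rw [hn, Nat.factorization_mul hd0 (pow_ne_zero j hp.ne_zero), Finsupp.add_apply,
    Nat.factorization_eq_zero_of_not_dvd hd, hp.factorization_pow, Finsupp.single_eq_same, zero_add,
    Nat.mul_div_cancel _ (pow_pos hp.pos j)]

theorem le_of_derived_quotient {G : Type*} [Group G] (D : Subgroup G) [D.Normal] {k : ℕ}
    (h : derivedSeries (G ⧸ D) k = ⊥) : derivedSeries G k ≤ D := by
  have h1 := map_derivedSeries_le_derivedSeries (QuotientGroup.mk' D) k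
  rw [h, le_bot_iff, Subgroup.map_eq_bot_iff, QuotientGroup.ker_mk'] at h1
  exact h1

/-- A group with degrees among three has derived length at most three. -/
theorem derived_three {G : Type u} [Group G] [Finite G] {a b : ℕ}
    (hdeg : ∀ χ : Cfsg.IrrCharacter G, Cfsg.charDegree (χ : G → ℂ) = 1 ∨
      Cfsg.charDegree (χ : G → ℂ) = a ∨ Cfsg.charDegree (χ : G → ℂ) = b) :
    derivedSeries G 3 = ⊥ := by
  induction hn : Nat.card G using Nat.strongRecOn generalizing G a b with
  | ind m ih =>
  have := Fintype.ofFinite G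
  -- trivial cases
  by_cases ha0 : a = 1 ∨ a = b ∨ ∀ χ : Cfsg.IrrCharacter G, Cfsg.charDegree (χ : G → ℂ) ≠ a
  · refine derived_three_of_two (m := b) fun χ => ?_
    rcases hdeg χ with h | h | h
    · exact Or.inl h
    · rcases ha0 with h' | h' | h'
      · exact Or.inl (h.trans h')
      · exact Or.inr (h.trans h')
      · exact absurd h (h' χ)
    · exact Or.inr h
  by_cases hb0 : b = 1 ∨ ∀ χ : Cfsg.IrrCharacter G, Cfsg.charDegree (χ : G → ℂ) ≠ b
  · refine derived_three_of_two (m := a) fun χ => ?_
    rcases hdeg χ with h | h | h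
    · exact Or.inl h
    · exact Or.inr h
    · rcases hb0 with h' | h'
      · exact Or.inl (h.trans h')
      · exact absurd h (h' χ)
  push Not at ha0 hb0
  obtain ⟨ha1, hne, hχA⟩ := ha0
  obtain ⟨hb1, hχB⟩ := hb0
  wlog hlt : a < b generalizing a b
  · exact this (fun χ => (hdeg χ).imp_right Or.symm) hb1 hne.symm hχB ha1 hχA
      (lt_of_le_of_ne (not_lt.mp hlt) hne.symm)
  obtain ⟨χa, hχa⟩ := hχA
  have ha : 1 < a := by
    have := charDegree_pos χa
    omega
  by_cases hcop : a.Coprime b
  · -- coprime degrees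
    have hsolv : Group.IsSolvable G := by
      by_contra hns
      have hquot : ∀ (K : Subgroup G) [K.Normal], K ≠ ⊥ → Group.IsSolvable (G ⧸ K) := by
        intro K _ hK0
        refine ⟨⟨3, ih (Nat.card (G ⧸ K)) ?_ (a := a) (b := b)
          (fun ψ => by simpa only [charDegree_infl] using hdeg (infl K ψ)) rfl⟩⟩
        rw [← hn, Subgroup.card_eq_card_quotient_mul_card_subgroup K]
        exact lt_mul_of_one_lt_right Nat.card_pos (Subgroup.one_lt_card_iff_ne_bot K |>.mpr hK0)
      have hG : (⊤ : Subgroup G) ≠ ⊥ := fun h => hns (Group.isSolvable_of_top_eq_bot G h)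
      obtain ⟨M, hM⟩ := (Set.toFinite {M : Subgroup G | M.Normal ∧ M ≠ ⊥}).exists_minimal
        ⟨⊤, inferInstance, hG⟩
      obtain ⟨hMn, hM0⟩ := hM.1
      have hMns : ¬ Group.IsSolvable M := fun h => hns
        ((Group.isSolvable_iff_subgroup_quotient M).mpr ⟨h, hquot M hM0⟩)
      have hperf : commutator M = ⊤ := by
        by_cases h0 : ⁅M, M⁆ = ⊥
        · exact absurd (Group.isSolvable_of_comm fun x y => Subtype.ext
            (commutatorElement_eq_one_iff_mul_comm.mp (Subgroup.mem_bot.mp
              (h0 ▸ Subgroup.commutator_mem_commutator x.2 y.2)))) hMns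
        · have h1 : ⁅M, M⁆ = M := le_antisymm (Subgroup.commutator_le_self M)
            (hM.2 ⟨inferInstance, h0⟩ (Subgroup.commutator_le_self M))
          apply Subgroup.map_injective M.subtype_injective
          rw [commutator_def, Subgroup.map_commutator, ← MonoidHom.range_eq_map,
            Subgroup.range_subtype, h1]
      refine not_perfect_minimal (M := M) hperf hM0 (fun K hK hK0 => ?_) ha hlt hcop hdeg
      rcases eq_or_ne (M ⊓ K) ⊥ with h | h
      · exfalso
        have := hquot K hK0
        refine hMns (Group.isSolvable_of_isSolvable_injective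
          (f := (QuotientGroup.mk' K).comp M.subtype) ?_)
        rw [injective_iff_map_eq_one]
        intro x hx
        have hx' : (x : G) ∈ M ⊓ K := ⟨x.2, (QuotientGroup.eq_one_iff _).mp hx⟩
        rw [h, Subgroup.mem_bot] at hx'
        exact Subtype.ext hx'
      · exact (hM.2 ⟨inferInstance, h⟩ inf_le_left).trans inf_le_right
    exact derived_three_of_coprime hlt ha hcop hdeg
  -- a common prime divisor
  obtain ⟨p, hp, hpa, hpb⟩ := Nat.Prime.not_coprime_iff_dvd.mp hcop
  have := Fact.mk hp
  obtain ⟨N, hNn, hNc, k, hk⟩ := Cfsg.Agent.S4456.result (G := G) p hp fun χ h => by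
    rcases hdeg χ with h' | h' | h'
    · exact absurd h' h
    · exact h' ▸ hpa
    · exact h' ▸ hpb
  have := Fintype.ofFinite N
  have hN : Nat.card N < m := by
    rw [← hn, lt_iff_le_and_ne]
    refine ⟨N.card_le_card_group, fun h => ?_⟩
    rw [h] at hNc
    exact hp.coprime_iff_not_dvd.mp hNc.symm (hpa.trans (hχa ▸ charDegree_dvd_card χa))
  set a' := a / p ^ a.factorization p with ha'
  set b' := b / p ^ b.factorization p with hb'
  have hdegN : ∀ ν : Cfsg.IrrCharacter N, Cfsg.charDegree (ν : N → ℂ) = 1 ∨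
      Cfsg.charDegree (ν : N → ℂ) = a' ∨ Cfsg.charDegree (ν : N → ℂ) = b' := by
    intro ν
    obtain ⟨χ, hχ⟩ := exists_over N ν
    obtain ⟨h1, h2⟩ := degree_dvd_of_over N χ ν hχ
    rw [hk] at h2
    have hpν : ¬ p ∣ Cfsg.charDegree (ν : N → ℂ) := fun h =>
      hp.coprime_iff_not_dvd.mp hNc.symm (h.trans (charDegree_dvd_card ν))
    rcases hdeg χ with h | h | h
    · exact Or.inl (Nat.eq_one_of_dvd_one (h ▸ h1))
    · exact Or.inr (Or.inl (ordCompl_eq hp hpν (h ▸ h1) (h ▸ h2)))
    · exact Or.inr (Or.inr (ordCompl_eq hp hpν (h ▸ h1) (h ▸ h2)))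
  by_cases hab' : a' = 1 ∧ b' = 1
  · -- abelian normal complement
    have hNab : ∀ x ∈ N, ∀ y ∈ N, x * y = y * x := fun x hx y hy =>
      congrArg Subtype.val (comm_of_forall_linear (fun ν => by
        rcases hdegN ν with h | h | h
        · exact h
        · exact h.trans hab'.1
        · exact h.trans hab'.2) (⟨x, hx⟩ : N) ⟨y, hy⟩)
    have hnil : Group.IsNilpotent (G ⧸ N) :=
      (IsPGroup.of_card (p := p) (n := k) (by rw [← hk, Subgroup.index_eq_card])).isNilpotent
    exact derived_three_of_monomial hlt hdeg fun χ =>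
      isMonomial_of_abelian_nilpotent N hNab hnil (χ : G → ℂ) χ.2
  set D : Subgroup G := ⁅N, N⁆ with hD
  have hDN : D ≤ N := Subgroup.commutator_le_self N
  have hpow : ∀ ψ : Cfsg.IrrCharacter (G ⧸ D), ∃ j, Cfsg.charDegree (ψ : G ⧸ D → ℂ) = p ^ j := by
    intro ψ
    have h := degree_dvd_index ψ (N.map (QuotientGroup.mk' D)) (by
      rintro _ ⟨x, hx, rfl⟩ _ ⟨y, hy, rfl⟩
      rw [← map_mul, ← map_mul]
      refine QuotientGroup.eq.mpr ?_
      rw [show (x * y)⁻¹ * (y * x) = y⁻¹ * x⁻¹ * y⁻¹⁻¹ * x⁻¹⁻¹ by group]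
      exact Subgroup.commutator_mem_commutator (N.inv_mem hy) (N.inv_mem hx))
    rw [Subgroup.index_map_eq _ (QuotientGroup.mk'_surjective D) (by rwa [QuotientGroup.ker_mk']),
      hk] at h
    exact ((Nat.dvd_prime_pow hp).mp h).imp fun j hj => hj.2
  have hnot : ∀ c : ℕ, c ≠ 0 → c / p ^ c.factorization p ≠ 1 → ∀ j, c ≠ p ^ j := by
    intro c _ hc j hj
    apply hc
    rw [hj, hp.factorization_pow, Finsupp.single_eq_same, Nat.div_self (pow_pos hp.pos j)]
  -- one of the degrees is a power of the prime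
  have key : ∀ c d : ℕ, d / p ^ d.factorization p ≠ 1 → d ≠ 0 → c / p ^ c.factorization p = 1 →
      (∀ χ : Cfsg.IrrCharacter G, Cfsg.charDegree (χ : G → ℂ) = 1 ∨
        Cfsg.charDegree (χ : G → ℂ) = c ∨ Cfsg.charDegree (χ : G → ℂ) = d) →
      (∀ ν : Cfsg.IrrCharacter N, Cfsg.charDegree (ν : N → ℂ) = 1 ∨
        Cfsg.charDegree (ν : N → ℂ) = d / p ^ d.factorization p) →
      derivedSeries G 3 = ⊥ := by
    intro c d hd hd0 _ hcd hdN
    have h1 : derivedSeries G 2 ≤ D := le_of_derived_quotient D
      (derived_two_eq_bot (m := c) fun ψ => by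
        obtain ⟨j, hj⟩ := hpow ψ
        have h := hcd (infl D ψ)
        rw [charDegree_infl] at h
        rcases h with h | h | h
        · exact Or.inl h
        · exact Or.inr h
        · exact absurd (h.symm.trans hj) (hnot d hd0 hd j))
    have h2 : derivedSeries N 2 = ⊥ := derived_two_eq_bot hdN
    rw [← le_bot_iff, derivedSeries_succ G 2]
    refine (Subgroup.commutator_mono h1 h1).trans ?_
    have e : D = (derivedSeries N 1).map N.subtype := by
      rw [derivedSeries_one, commutator_def, Subgroup.map_commutator, ← MonoidHom.range_eq_map,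
        Subgroup.range_subtype]
    rw [e, ← Subgroup.map_commutator, ← derivedSeries_succ N 1, h2, Subgroup.map_bot]
  by_cases hA : a' = 1
  · exact key a b (fun h => hab' ⟨hA, h⟩) (by omega) hA hdeg fun ν => by
      rcases hdegN ν with h | h | h
      · exact Or.inl h
      · exact Or.inl (h.trans hA)
      · exact Or.inr h
  by_cases hB : b' = 1
  · exact key b a hA (by omega) hB (fun χ => (hdeg χ).imp_right Or.symm) fun ν => by
      rcases hdegN ν with h | h | h
      · exact Or.inl h
      · exact Or.inr h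
      · exact Or.inl (h.trans hB)
  have hcomm : commutator G ≤ (commutator N).map N.subtype := by
    have e : D = (commutator N).map N.subtype := by
      rw [commutator_def, Subgroup.map_commutator, ← MonoidHom.range_eq_map, Subgroup.range_subtype]
    rw [← e, ← derivedSeries_one]
    refine le_of_derived_quotient D ?_
    rw [derivedSeries_one, commutator_def, Subgroup.commutator_eq_bot_iff_le_centralizer]
    intro x _
    refine Subgroup.mem_centralizer_iff.mpr fun y _ => comm_of_forall_linear (fun ψ => ?_) y x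
    obtain ⟨j, hj⟩ := hpow ψ
    have h := hdeg (infl D ψ)
    rw [charDegree_infl] at h
    rcases h with h | h | h
    · exact h
    · exact absurd (h.symm.trans hj) (hnot a (by omega) hA j)
    · exact absurd (h.symm.trans hj) (hnot b (by omega) hB j)
  refine le_bot_iff.mp ((derived_succ_le_map N hcomm 2).trans ?_)
  rw [ih (Nat.card N) hN (a := a') (b := b') hdegN rfl, Subgroup.map_bot]

end CfsgLib.ThreeDegrees
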