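import Cfsg.Agent.Lib.CharDegree.ThreeDegrees.Basic
import Cfsg.Agent.Lib.CharDegree.SectionAction
import Mathlib.GroupTheory.Nilpotent

/-!
# Solvable groups with three coprime degrees have derived length at most three
-/

namespace CfsgLib.ThreeDegrees

open CfsgLib.Char CfsgLib.CharDegree CfsgLib.Clifford CfsgLib.TwoDegrees
open scoped Classical ComplexConjugate commutatorElement

variable {G : Type*} [Group G] [Finite G]

/-- A `q`-group fixes a nontrivial element of a nontrivial normal `q`-subgroup. -/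
theorem exists_fixed {q : ℕ} [hq : Fact q.Prime] (A P : Subgroup G) [hA : A.Normal]
    (hAp : IsPGroup q A) (hPp : IsPGroup q P) (hne : A ≠ ⊥) :
    ∃ r ∈ A, r ≠ 1 ∧ ∀ g ∈ P, g * r * g⁻¹ = r := by
  let φ : P →* MulAut A := MulAut.conjNormal.comp P.subtype
  let _ : MulAction P A := MulAction.compHom A φ
  have : Nontrivial A := (Subgroup.nontrivial_iff_ne_bot A).mpr hne
  obtain ⟨k, hk⟩ := hAp.exists_card_eq
  have hk0 : k ≠ 0 := fun h => by
    rw [h, pow_zero] at hk
    exact absurd hk (Finite.one_lt_card (α := A)).ne'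
  have h1 : q ∣ Nat.card (MulAction.fixedPoints P A) := by
    have h := hPp.card_modEq_card_fixedPoints (α := A)
    rw [hk] at h
    exact Nat.modEq_zero_iff_dvd.mp (h.symm.trans (Nat.modEq_zero_iff_dvd.mpr (dvd_pow_self q hk0)))
  have h2 : (1 : A) ∈ MulAction.fixedPoints P A := fun g => map_one (φ g)
  obtain ⟨⟨r, hr⟩, hne'⟩ : ∃ r : MulAction.fixedPoints P A, r ≠ ⟨1, h2⟩ := by
    have : Nontrivial (MulAction.fixedPoints P A) := by
      rw [← Finite.one_lt_card_iff_nontrivial]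
      have h0 : 0 < Nat.card (MulAction.fixedPoints P A) :=
        Nat.card_pos_iff.mpr ⟨⟨⟨1, h2⟩⟩, inferInstance⟩
      exact lt_of_lt_of_le hq.out.one_lt (Nat.le_of_dvd h0 h1)
    exact exists_ne _
  exact ⟨r, r.2, fun h => hne' (Subtype.ext (Subtype.ext h)),
    fun g hg => congrArg Subtype.val (hr ⟨g, hg⟩)⟩

/-- A chief factor at the top of the nilpotent residual, complemented. -/
theorem exists_complemented_factor [Group.IsSolvable G] (hnil : ¬ Group.IsNilpotent G) :
    ∃ (L : Subgroup G) (_ : L.Normal) (Rb C₀ : Subgroup (G ⧸ L)) (_ : Rb.Normal) (q : ℕ)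
      (_ : Fact q.Prime),
      Rb ≠ ⊥ ∧ (∀ a ∈ Rb, ∀ b ∈ Rb, a * b = b * a) ∧
      (∀ F : Subgroup (G ⧸ L), F.Normal → F ≤ Rb → F = ⊥ ∨ F = Rb) ∧
      Group.IsNilpotent ((G ⧸ L) ⧸ Rb) ∧ ¬ Rb ≤ Subgroup.center (G ⧸ L) ∧
      IsPGroup q Rb ∧ Rb ⊔ C₀ = ⊤ ∧ Rb ⊓ C₀ = ⊥ := by
  obtain ⟨R, hR⟩ := (Set.toFinite {R : Subgroup G | ∃ _ : R.Normal, Group.IsNilpotent (G ⧸ R)}).exists_minimal
    ⟨⊤, inferInstance, have : Subsingleton (G ⧸ (⊤ : Subgroup G)) :=
      QuotientGroup.subsingleton_quotient_top; inferInstance⟩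
  obtain ⟨hRn, hRnil⟩ := hR.1
  have hR0 : R ≠ ⊥ := by
    intro h
    subst h
    exact hnil (Group.nilpotent_of_surjective (QuotientGroup.quotientBot (G := G)).toMonoidHom
      (QuotientGroup.quotientBot (G := G)).surjective)
  obtain ⟨L, hL, hLR, hmax⟩ := exists_maximal_lt hR0
  set Rb : Subgroup (G ⧸ L) := R.map (QuotientGroup.mk' L) with hRb
  have hRbn : Rb.Normal := hRn.map _ (QuotientGroup.mk'_surjective L)
  have hcomap : Rb.comap (QuotientGroup.mk' L) = R := by
    rw [hRb, Subgroup.comap_map_eq, QuotientGroup.ker_mk', sup_eq_left.mpr hLR.le]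
  have hne : Rb ≠ ⊥ := fun h => hLR.ne (by
    rw [← hcomap, h, MonoidHom.comap_bot, QuotientGroup.ker_mk'])
  have hmin : ∀ F : Subgroup (G ⧸ L), F.Normal → F ≤ Rb → F = ⊥ ∨ F = Rb := by
    intro F hF hFR
    rcases hmax (F.comap (QuotientGroup.mk' L)) (hF.comap _)
      (fun x hx => by
        rw [Subgroup.mem_comap, QuotientGroup.mk'_apply, (QuotientGroup.eq_one_iff x).mpr hx]
        exact F.one_mem)
      ((Subgroup.comap_mono hFR).trans_eq hcomap) with h | h
    · refine Or.inl ?_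
      rw [← Subgroup.map_comap_eq_self_of_surjective (QuotientGroup.mk'_surjective L) F, h,
        (Subgroup.map_eq_bot_iff _).mpr (by rw [QuotientGroup.ker_mk'])]
    · exact Or.inr (by rw [← Subgroup.map_comap_eq_self_of_surjective
        (QuotientGroup.mk'_surjective L) F, h])
  have hab : ∀ a ∈ Rb, ∀ b ∈ Rb, a * b = b * a := by
    rcases hmin ⁅Rb, Rb⁆ inferInstance (Subgroup.commutator_le_self Rb) with h | h
    · exact fun a ha b hb => commutatorElement_eq_one_iff_mul_comm.mp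
        (Subgroup.mem_bot.mp (h ▸ Subgroup.commutator_mem_commutator ha hb))
    · exfalso
      obtain ⟨n, hn⟩ := Group.IsSolvable.solvable (G := G ⧸ L)
      have hall : ∀ k, Rb ≤ derivedSeries (G ⧸ L) k := by
        intro k
        induction k with
        | zero => exact le_top
        | succ k ih =>
          rw [derivedSeries_succ, ← h]
          exact Subgroup.commutator_mono ih ih
      exact hne (le_bot_iff.mp ((hall n).trans_eq hn))
  have hnilq : Group.IsNilpotent ((G ⧸ L) ⧸ Rb) :=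
    Group.nilpotent_of_surjective (QuotientGroup.map R Rb (QuotientGroup.mk' L) hcomap.ge)
      fun x => by
        induction x using QuotientGroup.induction_on with
        | H y =>
          induction y using QuotientGroup.induction_on with
          | H g => exact ⟨(g : G ⧸ R), rfl⟩
  have hcen : ¬ Rb ≤ Subgroup.center (G ⧸ L) := by
    intro h
    have hnL : Group.IsNilpotent (G ⧸ L) :=
      Subgroup.isNilpotent_of_ker_le_center (QuotientGroup.mk' Rb) (by rwa [QuotientGroup.ker_mk'])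
    exact hLR.not_ge (hR.2 ⟨hL, hnL⟩ hLR.le)
  have : Nontrivial Rb := (Subgroup.nontrivial_iff_ne_bot Rb).mpr hne
  obtain ⟨q, hq, hqd⟩ := Nat.exists_prime_and_dvd (Finite.one_lt_card (α := Rb)).ne'
  have := Fact.mk hq
  have hRq : IsPGroup q Rb := by
    let F : Subgroup (G ⧸ L) :=
      { carrier := {r | r ∈ Rb ∧ r ^ q = 1}
        one_mem' := ⟨Rb.one_mem, one_pow q⟩
        mul_mem' := fun {x y} hx hy => ⟨Rb.mul_mem hx.1 hy.1, by
          rw [(show Commute x y from hab x hx.1 y hy.1).mul_pow, hx.2, hy.2, one_mul]⟩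
        inv_mem' := fun {x} hx => ⟨Rb.inv_mem hx.1, by rw [inv_pow, hx.2, inv_one]⟩ }
    obtain ⟨w, hw⟩ := exists_prime_orderOf_dvd_card' q hqd
    have hF : F.Normal := ⟨fun x hx g => ⟨hRbn.conj_mem x hx.1 g, by
      rw [conj_pow, hx.2, mul_one, mul_inv_cancel]⟩⟩
    rcases hmin F hF (fun x hx => hx.1) with h | h
    · exfalso
      have hmem : (w : G ⧸ L) ∈ F :=
        ⟨w.2, by rw [← Subgroup.coe_pow, ← hw, pow_orderOf_eq_one, OneMemClass.coe_one]⟩
      rw [h, Subgroup.mem_bot] at hmem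
      rw [show w = 1 from Subtype.ext hmem, orderOf_one] at hw
      exact hq.ne_one hw.symm
    · intro x
      refine ⟨1, Subtype.ext ?_⟩
      rw [pow_one, Subgroup.coe_pow, (h.symm.le x.2).2, OneMemClass.coe_one]
  set C := secCent Rb (⊥ : Subgroup (G ⧸ L)) with hC
  have hmemC : ∀ g : G ⧸ L, g ∈ C ↔ ∀ r ∈ Rb, g * r * g⁻¹ = r := fun g => by
    simp only [hC, mem_secCent, Subgroup.mem_bot, mul_inv_eq_one]
  -- a Sylow subgroup of another prime acting nontrivially
  obtain ⟨s, hs, hsq, S, hS⟩ : ∃ s : ℕ, ∃ _ : Fact s.Prime, s ≠ q ∧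
      ∃ S : Sylow s (G ⧸ L), ¬ (S : Subgroup (G ⧸ L)) ≤ C := by
    by_contra hno
    push Not at hno
    let Sq : Sylow q (G ⧸ L) := default
    have htop : C ⊔ (Sq : Subgroup (G ⧸ L)) = ⊤ := by
      rw [← Subgroup.index_eq_one, Nat.eq_one_iff_not_exists_prime_dvd]
      intro r hr hrd
      have := Fact.mk hr
      by_cases hrq : r = q
      · subst hrq
        exact Sq.not_dvd_index (hrd.trans (Subgroup.index_dvd_of_le le_sup_right))
      · let Sr : Sylow r (G ⧸ L) := default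
        exact Sr.not_dvd_index (hrd.trans (Subgroup.index_dvd_of_le
          ((hno r ‹_› hrq Sr).trans le_sup_left)))
    obtain ⟨r, hr, hr1, hrfix⟩ := exists_fixed Rb (Sq : Subgroup (G ⧸ L)) hRq Sq.2 hne
    have hrc : r ∈ Subgroup.center (G ⧸ L) := by
      rw [Subgroup.mem_center_iff]
      intro g
      have hg : g ∈ C ⊔ (Sq : Subgroup (G ⧸ L)) := by rw [htop]; exact Subgroup.mem_top g
      obtain ⟨c, hc, u, hu, rfl⟩ := Subgroup.mem_sup_of_normal_left.mp hg
      refine mul_inv_eq_iff_eq_mul.mp ?_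
      rw [show c * u * r * (c * u)⁻¹ = c * (u * r * u⁻¹) * c⁻¹ by group, hrfix u hu,
        (hmemC c).mp hc r hr]
    rcases hmin (Rb ⊓ Subgroup.center (G ⧸ L)) inferInstance inf_le_left with h | h
    · have : r ∈ Rb ⊓ Subgroup.center (G ⧸ L) := ⟨hr, hrc⟩
      rw [h, Subgroup.mem_bot] at this
      exact hr1 this
    · exact hcen (h ▸ inf_le_right)
  -- its normalizer is a complement
  have hdisj : (S : Subgroup (G ⧸ L)) ⊓ Rb = ⊥ := by
    obtain ⟨i, hi⟩ := S.2.exists_card_eq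
    obtain ⟨j, hj⟩ := hRq.exists_card_eq
    refine disjoint_iff.mp (Subgroup.disjoint_of_coprime_natCard ?_)
    rw [hi, hj]
    exact ((Nat.coprime_primes hs.out hq).mpr hsq).pow i j
  set SR : Subgroup (G ⧸ L) := (S : Subgroup (G ⧸ L)) ⊔ Rb with hSR
  have hSRn : SR.Normal := by
    have hn : (S.mapSurjective (QuotientGroup.mk'_surjective Rb)).toSubgroup.Normal := inferInstance
    have h2 := hn.comap (QuotientGroup.mk' Rb)
    rwa [Sylow.coe_mapSurjective, Subgroup.comap_map_eq, QuotientGroup.ker_mk'] at h2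
  set C₀ := Subgroup.normalizer ((S : Subgroup (G ⧸ L)) : Set (G ⧸ L)) with hC₀
  have hfr := Sylow.normalizer_sup_eq_top' S (le_sup_left : (S : Subgroup (G ⧸ L)) ≤ SR)
  have hsup : Rb ⊔ C₀ = ⊤ := by
    refine eq_top_iff.mpr (hfr.symm.le.trans (sup_le le_sup_right (sup_le ?_ le_sup_left)))
    exact Subgroup.le_normalizer.trans le_sup_right
  have hinf : Rb ⊓ C₀ = ⊥ := by
    have hFn : (Rb ⊓ C₀).Normal := ⟨fun x hx g => by
      have hg : g ∈ Rb ⊔ C₀ := by rw [hsup]; exact Subgroup.mem_top g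
      obtain ⟨r, hr, c, hc, rfl⟩ := Subgroup.mem_sup_of_normal_left.mp hg
      have h1 : c * x * c⁻¹ ∈ Rb := hRbn.conj_mem x hx.1 c
      rw [show r * c * x * (r * c)⁻¹ = r * (c * x * c⁻¹) * r⁻¹ by group, hab r hr _ h1,
        mul_inv_cancel_right]
      exact ⟨h1, C₀.mul_mem (C₀.mul_mem hc hx.2) (C₀.inv_mem hc)⟩⟩
    rcases hmin (Rb ⊓ C₀) hFn inf_le_left with h | h
    · exact h
    exfalso
    refine hS fun g hg => (hmemC g).mpr fun r hr => ?_
    have hrN : r ∈ C₀ := (h.symm.le hr).2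
    have h1 : g * r * g⁻¹ * r⁻¹ ∈ (S : Subgroup (G ⧸ L)) ⊓ Rb := by
      refine ⟨?_, Rb.mul_mem (hRbn.conj_mem r hr g) (Rb.inv_mem hr)⟩
      rw [show g * r * g⁻¹ * r⁻¹ = g * (r * g⁻¹ * r⁻¹) by group]
      exact (S : Subgroup (G ⧸ L)).mul_mem hg
        ((Subgroup.mem_normalizer_iff.mp hrN _).mp ((S : Subgroup (G ⧸ L)).inv_mem hg))
    rw [hdisj, Subgroup.mem_bot] at h1
    exact mul_inv_eq_one.mp h1
  exact ⟨L, hL, Rb, C₀, hRbn, q, ‹_›, hne, hab, hmin, hnilq, hcen, hRq, hsup, hinf⟩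

end CfsgLib.ThreeDegrees
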