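import Cfsg.Agent.Lib.CharDegree.ThreeDegrees.Basic
import Cfsg.Agent.Lib.Char.PPrimeKernel
import Cfsg.Agent.Lib.Char.Real
import Cfsg.Agent.S0168
import Cfsg.Agent.S4456

/-!
# Three coprime degrees: no nonabelian minimal normal subgroup
-/

namespace CfsgLib.ThreeDegrees

open CfsgLib.Char CfsgLib.CharDegree CfsgLib.Clifford
open scoped Classical ComplexConjugate commutatorElement

variable {G : Type*} [Group G] [Fintype G]

theorem inner_mul_left (φ ψ τ : G → ℂ) :
    Cfsg.classInner (fun g => φ g * ψ g) τ = Cfsg.classInner ψ (fun g => conj (φ g) * τ g) := by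
  simp only [Cfsg.classInner]
  congr 1
  refine Finset.sum_congr rfl fun g _ => ?_
  rw [map_mul, Complex.conj_conj]
  ring

omit [Fintype G] in
theorem isCharacter_mul (χ ψ : Cfsg.IrrCharacter G) :
    Cfsg.IsCharacter G fun g => (χ : G → ℂ) g * (ψ : G → ℂ) g :=
  IsChar.mul (IsIrr.isCharacter χ.2) (IsIrr.isCharacter ψ.2)

/-- Decomposition at an element. -/
theorem apply_eq_sum [Fintype (Cfsg.IrrCharacter G)] {f : G → ℂ} (hf : Cfsg.IsCharacter G f)
    {c : Cfsg.IrrCharacter G → ℕ} (hc : ∀ τ : Cfsg.IrrCharacter G, Cfsg.classInner f (τ : G → ℂ) = c τ) (g : G) :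
    f g = ∑ τ, (c τ : ℂ) * (τ : G → ℂ) g := by
  conv_lhs => rw [classFunction_eq_sum (IsChar.isClassFunction hf)]
  simp [hc]

variable (M : Subgroup G) [hM : M.Normal]

/-- A perfect normal subgroup in the kernel of all nonlinear `p'`-degree characters has order
prime to `p`. -/
theorem not_dvd_card_of_kernels (hperf : commutator M = ⊤) {p : ℕ} [hp : Fact p.Prime]
    (h : ∀ χ : Cfsg.IrrCharacter G, ¬ p ∣ Cfsg.charDegree (χ : G → ℂ) →
      ∀ m ∈ M, (χ : G → ℂ) m = (χ : G → ℂ) 1) : ¬ p ∣ Nat.card M := by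
  let S : Sylow p G := default
  set U : Subgroup G := M ⊔ (S : Subgroup G) with hU
  have := Fintype.ofFinite U
  have hMU : M ≤ U := le_sup_left
  have hidx : ¬ p ∣ U.index := fun hd =>
    S.not_dvd_index (hd.trans (Subgroup.index_dvd_of_le le_sup_right))
  obtain ⟨k, hk⟩ : ∃ k, (M.subgroupOf U).index = p ^ k := by
    obtain ⟨n, hn⟩ := IsPGroup.iff_card.mp S.2
    have h1 : (M.subgroupOf U).index ∣ p ^ n := by
      show M.relIndex U ∣ _
      rw [hU, sup_comm, Subgroup.relIndex_sup_right, ← hn]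
      exact (M.subgroupOf (S : Subgroup G)).index_dvd_card
    exact ((Nat.dvd_prime_pow hp.out).mp h1).imp fun j hj => hj.2
  obtain ⟨K, hKn, hKc, i, hKi⟩ := Cfsg.Agent.S4456.result (G := U) p hp.out fun ψ hψ => by
    by_contra hpd
    obtain ⟨χ, hχ, hne⟩ := PPrimeKernel.exists_above hidx ψ hpd
    obtain ⟨ψ', hψ'⟩ := exists_infl (M.subgroupOf U) ψ fun u hu =>
      PPrimeKernel.apply_eq_of_restrict hne (h χ hχ u (Subgroup.mem_subgroupOf.mp hu))
    apply hψ
    rw [← hψ', charDegree_infl] at hpd ⊢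
    have hd := charDegree_dvd_card ψ'
    rw [← Subgroup.index_eq_card, hk] at hd
    obtain ⟨j, -, hj⟩ := (Nat.dvd_prime_pow hp.out).mp hd
    rcases Nat.eq_zero_or_pos j with rfl | hj0
    · simpa using hj
    · exact absurd (hj ▸ dvd_pow_self p hj0.ne') hpd
  let M' : Subgroup U := M.subgroupOf U
  have hMK : M' ≤ K := by
    by_contra hcon
    -- otherwise a nontrivial perfect `p`-group quotient
    let ι : M →* U := Subgroup.inclusion hMU
    let f : M →* U ⧸ K := (QuotientGroup.mk' K).comp ι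
    have hq : IsPGroup p f.range := by
      have : IsPGroup p (U ⧸ K) := IsPGroup.of_card (n := i) (by rw [← Subgroup.index_eq_card, hKi])
      exact this.to_subgroup _
    have := hq.isNilpotent
    have hne : f.range ≠ ⊥ := fun hb => hcon fun u hu => by
      have h1 : f ⟨(u : G), Subgroup.mem_subgroupOf.mp hu⟩ ∈ f.range := ⟨_, rfl⟩
      rw [hb, Subgroup.mem_bot] at h1
      exact (QuotientGroup.eq_one_iff (N := K) u).mp h1
    have : Nontrivial f.range := (Subgroup.nontrivial_iff_ne_bot _).mpr hne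
    have hlt : commutator f.range < ⊤ := Group.IsSolvable.commutator_lt_top_of_nontrivial (G := f.range)
    apply hlt.ne
    rw [← Subgroup.map_top_of_surjective _ f.rangeRestrict_surjective, ← hperf, commutator_def,
      commutator_def, Subgroup.map_commutator,
      Subgroup.map_top_of_surjective _ f.rangeRestrict_surjective]
  intro hd
  have h1 : Nat.card M = Nat.card M' :=
    (Nat.card_congr (Subgroup.subgroupOfEquivOfLe hMU).toEquiv).symm
  rw [h1] at hd
  exact hp.out.ne_one
    (Nat.eq_one_of_dvd_coprimes hKc (hd.trans (Subgroup.card_dvd_of_le hMK)) dvd_rfl)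

variable [Fintype M] {a b : ℕ}

/-- Some character nontrivial on a perfect normal subgroup has each degree. -/
theorem exists_faithful_degree (hperf : commutator M = ⊤) (hne : M ≠ ⊥)
    (hdeg : ∀ χ : Cfsg.IrrCharacter G, Cfsg.charDegree (χ : G → ℂ) = 1 ∨
      Cfsg.charDegree (χ : G → ℂ) = a ∨ Cfsg.charDegree (χ : G → ℂ) = b) :
    ∃ χ : Cfsg.IrrCharacter G, Cfsg.charDegree (χ : G → ℂ) = a ∧ ¬ M ≤ kerSubgroup χ := by
  by_contra hno
  push Not at hno
  have hMG : M ≤ commutator G := fun m hm => by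
    have h1 : (⟨m, hm⟩ : M) ∈ commutator M := by rw [hperf]; exact Subgroup.mem_top _
    have h2 := Subgroup.mem_map_of_mem M.subtype h1
    rw [commutator_def, Subgroup.map_commutator] at h2
    exact Subgroup.commutator_mono le_top le_top h2
  have hkill : ∀ χ : Cfsg.IrrCharacter G, Cfsg.charDegree (χ : G → ℂ) ≠ b →
      ∀ m ∈ M, (χ : G → ℂ) m = (χ : G → ℂ) 1 := by
    intro χ hχ m hm
    rcases hdeg χ with h | h | h
    · exact le_ker_of_degree_one χ h (hMG hm)
    · exact mem_kerSubgroup.mp (hno χ h hm)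
    · exact absurd h hχ
  have hθ1 : ∀ θ : Cfsg.IrrCharacter M, Cfsg.charDegree (θ : M → ℂ) = 1 := by
    intro θ
    by_contra hθ
    obtain ⟨χ, hχ⟩ := exists_over M θ
    have hd := (degree_dvd_of_over M χ θ hχ).1
    by_cases hb : Cfsg.charDegree (χ : G → ℂ) = b
    · obtain ⟨p, hp, hpθ⟩ := Nat.exists_prime_and_dvd hθ
      have := Fact.mk hp
      refine not_dvd_card_of_kernels M hperf (fun χ' hχ' => hkill χ' fun h' => hχ' ?_)
        (hpθ.trans (charDegree_dvd_card θ))
      rw [h', ← hb]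
      exact hpθ.trans hd
    · refine hθ ((charDegree_eq_one_iff_commutator θ).mpr fun m _ => ?_)
      exact PPrimeKernel.apply_eq_of_restrict hχ (hkill χ hb m m.2)
  apply hne
  rw [Subgroup.eq_bot_iff_forall]
  intro m hm
  have h1 : (⟨m, hm⟩ : M) ∈ commutator M := by rw [hperf]; exact Subgroup.mem_top _
  have h2 := eq_one_of_mem_all_ker (x := (⟨m, hm⟩ : M)) fun θ => le_ker_of_degree_one θ (hθ1 θ) h1
  exact congrArg Subtype.val h2

/-- Three coprime degrees: no perfect minimal normal subgroup in every nontrivial kernel. -/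
theorem not_perfect_minimal (hperf : commutator M = ⊤) (hne : M ≠ ⊥)
    (hmin : ∀ K : Subgroup G, K.Normal → K ≠ ⊥ → M ≤ K) (ha : 1 < a) (hab : a < b)
    (hcop : a.Coprime b)
    (hdeg : ∀ χ : Cfsg.IrrCharacter G, Cfsg.charDegree (χ : G → ℂ) = 1 ∨
      Cfsg.charDegree (χ : G → ℂ) = a ∨ Cfsg.charDegree (χ : G → ℂ) = b) : False := by
  have := Fintype.ofFinite (Cfsg.IrrCharacter G)
  obtain ⟨χ, hχa, hχM⟩ := exists_faithful_degree M hperf hne hdeg
  obtain ⟨ψ₀, hψ₀b, hψ₀M⟩ := exists_faithful_degree (a := b) (b := a) M hperf hne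
    (fun χ => (hdeg χ).imp_right Or.symm)
  have hfaith : ∀ φ : Cfsg.IrrCharacter G, ¬ M ≤ kerSubgroup φ → kerSubgroup φ = ⊥ := fun φ hφ => by
    by_contra h
    exact hφ (hmin _ (kerSubgroup_normal φ) h)
  have hMG : M ≤ commutator G := fun m hm => by
    have h1 : (⟨m, hm⟩ : M) ∈ commutator M := by rw [hperf]; exact Subgroup.mem_top _
    have h2 := Subgroup.mem_map_of_mem M.subtype h1
    rw [commutator_def, Subgroup.map_commutator] at h2
    exact Subgroup.commutator_mono le_top le_top h2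
  -- a character that is trivial on `M` times another, seen from `M`
  have hsep : ∀ (φ τ σ : Cfsg.IrrCharacter G), M ≤ kerSubgroup τ →
      Cfsg.charDegree (φ : G → ℂ) = a → ¬ M ≤ kerSubgroup φ →
      Cfsg.charDegree (σ : G → ℂ) = b → ¬ M ≤ kerSubgroup σ →
      Cfsg.classInner (fun g => (φ : G → ℂ) g * (τ : G → ℂ) g) (σ : G → ℂ) = 0 := by
    intro φ τ σ hτ hφa hφM hσb hσM
    by_contra hne'
    obtain ⟨c, hc⟩ : ∃ c : Cfsg.IrrCharacter G → ℕ, ∀ ρ : Cfsg.IrrCharacter G,
        Cfsg.classInner (fun g => (φ : G → ℂ) g * (τ : G → ℂ) g) (ρ : G → ℂ) = c ρ :=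
      Classical.axiomOfChoice fun ρ =>
        IsChar.classInner_eq_natCast (isCharacter_mul φ τ) (IsIrr.isCharacter ρ.2)
    obtain ⟨θ, hθ⟩ : ∃ θ : Cfsg.IrrCharacter M,
        Cfsg.classInner (fun m : M => (σ : G → ℂ) m) (θ : M → ℂ) ≠ 0 :=
      exists_constituent (IsChar.isClassFunction (IsChar.restrict M (IsIrr.isCharacter σ.2)))
        fun h => IsIrr.apply_one_ne_zero σ.2 (congrFun h 1)
    choose d hd using fun ρ : Cfsg.IrrCharacter G =>
      IsChar.classInner_eq_natCast (IsChar.restrict M (IsIrr.isCharacter ρ.2))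
        (IsIrr.isCharacter θ.2)
    have hφθ : Cfsg.classInner (fun m : M => (φ : G → ℂ) m) (θ : M → ℂ) ≠ 0 := by
      intro h0
      have h1 : Cfsg.classInner (fun m : M => (φ : G → ℂ) m * (τ : G → ℂ) m) (θ : M → ℂ) = 0 := by
        rw [show (fun m : M => (φ : G → ℂ) m * (τ : G → ℂ) m) =
          (τ : G → ℂ) 1 • fun m : M => (φ : G → ℂ) m from funext fun m => by
            rw [Pi.smul_apply, smul_eq_mul, mem_kerSubgroup.mp (hτ m.2), mul_comm],
          classInner_smul_left, h0, mul_zero]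
      rw [show (fun m : M => (φ : G → ℂ) m * (τ : G → ℂ) m) =
        ∑ ρ : Cfsg.IrrCharacter G, (c ρ : ℂ) • fun m : M => (ρ : G → ℂ) m from funext fun m => by
          rw [Finset.sum_apply]
          exact apply_eq_sum (isCharacter_mul φ τ) hc m, classInner_sum_left] at h1
      simp only [classInner_smul_left, hd] at h1
      have h2 : ∑ ρ, c ρ * d ρ = 0 := by exact_mod_cast h1
      have h3 := Finset.sum_eq_zero_iff.mp h2 σ (Finset.mem_univ _)
      rcases Nat.mul_eq_zero.mp h3 with h4 | h4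
      · exact hne' (by rw [hc, h4, Nat.cast_zero])
      · exact hθ (by rw [hd, h4, Nat.cast_zero])
    have hθ1 : Cfsg.charDegree (θ : M → ℂ) = 1 := Nat.eq_one_of_dvd_coprimes hcop
      (hφa ▸ (degree_dvd_of_over M φ θ hφθ).1) (hσb ▸ (degree_dvd_of_over M σ θ hθ).1)
    refine hσM fun m hm => mem_kerSubgroup.mpr ?_
    have hθtriv : ∀ x : M, (θ : M → ℂ) x = (θ : M → ℂ) 1 := fun x =>
      le_ker_of_degree_one θ hθ1 (hperf ▸ Subgroup.mem_top x)
    have h := congrFun (restrict_eq_smul_orbit_sum hM σ.2 θ.2 hθ) ⟨m, hm⟩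
    have h' := congrFun (restrict_eq_smul_orbit_sum hM σ.2 θ.2 hθ) 1
    simp only [Pi.smul_apply, Finset.sum_apply, OneMemClass.coe_one] at h h'
    rw [h, h']
    congr 1
    refine Finset.sum_congr rfl fun f hf => ?_
    obtain ⟨g, -, rfl⟩ := Finset.mem_image.mp hf
    rw [conjFn_apply, conjFn_apply, hθtriv, hθtriv ⟨g * ((1 : M) : G) * g⁻¹, _⟩]
  -- products of faithful characters of degrees `a` and `b`
  have hprod : ∀ φ σ τ : Cfsg.IrrCharacter G,
      Cfsg.charDegree (φ : G → ℂ) = a → ¬ M ≤ kerSubgroup φ →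
      Cfsg.charDegree (σ : G → ℂ) = b → ¬ M ≤ kerSubgroup σ →
      Cfsg.charDegree (τ : G → ℂ) = a →
      Cfsg.classInner (fun g => (φ : G → ℂ) g * (σ : G → ℂ) g) (τ : G → ℂ) = 0 := by
    intro φ σ τ hφa hφM hσb hσM hτa
    by_contra hne'
    choose c hc using fun ρ : Cfsg.IrrCharacter G =>
      IsChar.classInner_eq_natCast (isCharacter_mul φ σ) (IsIrr.isCharacter ρ.2)
    have hc1 : ∀ ρ : Cfsg.IrrCharacter G, Cfsg.charDegree (ρ : G → ℂ) = 1 → c ρ = 0 := by
      intro ρ hρ
      obtain ⟨l, hl⟩ := exists_hom_of_degree_one ρ hρ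
      have h := hc ρ
      rw [inner_mul_left, show (fun g => conj ((φ : G → ℂ) g) * (ρ : G → ℂ) g) =
        ((twist (conjIrr φ) l : Cfsg.IrrCharacter G) : G → ℂ) from funext fun g => by
          rw [twist_apply, conjIrr_apply, hl],
        classInner_irr, if_neg fun he => ?_] at h
      · exact_mod_cast h.symm
      · have h1 : Cfsg.charDegree ((twist (conjIrr φ) l : Cfsg.IrrCharacter G) : G → ℂ) = a := by
          rw [charDegree_twist]
          refine charDegree_eq_of_apply_one ?_
          rw [conjIrr_apply, ← cast_irrDegree, hφa, Complex.conj_natCast]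
        rw [← he, hσb] at h1
        omega
    -- degree count
    have hdecomp : ∑ ρ, c ρ * Cfsg.charDegree (ρ : G → ℂ) = a * b := by
      have h := apply_eq_sum (isCharacter_mul φ σ) hc 1
      simp only [← cast_irrDegree, hφa, hσb] at h
      exact_mod_cast h.symm
    set B := Finset.univ.filter fun ρ : Cfsg.IrrCharacter G => Cfsg.charDegree (ρ : G → ℂ) = b
      with hB
    have hsplit : ∀ ρ : Cfsg.IrrCharacter G, c ρ * Cfsg.charDegree (ρ : G → ℂ) =
        (if ρ ∈ B then b * c ρ else a * c ρ) := by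
      intro ρ
      by_cases hρ : ρ ∈ B
      · rw [if_pos hρ, (Finset.mem_filter.mp hρ).2, mul_comm]
      · rw [if_neg hρ]
        rcases hdeg ρ with h | h | h
        · rw [hc1 ρ h, mul_zero, zero_mul]
        · rw [h, mul_comm]
        · exact absurd (show ρ ∈ B from Finset.mem_filter.mpr ⟨Finset.mem_univ _, h⟩) hρ
    simp only [hsplit, Finset.sum_ite_mem_eq, Finset.sum_ite] at hdecomp
    rw [← Finset.mul_sum, ← Finset.mul_sum, Finset.filter_mem_eq_inter, Finset.univ_inter] at hdecomp
    set v := ∑ ρ ∈ B, c ρ with hv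
    set u := ∑ ρ ∈ Finset.univ.filter (fun ρ => ρ ∉ B), c ρ with hu
    have hτB : τ ∈ Finset.univ.filter (fun ρ => ρ ∉ B) := Finset.mem_filter.mpr
      ⟨Finset.mem_univ _, fun h => by have := (Finset.mem_filter.mp h).2; omega⟩
    have hcτ : 0 < c τ := Nat.pos_of_ne_zero fun h => hne' (by rw [hc, h, Nat.cast_zero])
    have hu0 : 0 < u := lt_of_lt_of_le hcτ (Finset.single_le_sum (fun _ _ => Nat.zero_le _) hτB)
    have hv0 : v = 0 := by
      have h1 : a ∣ v * b := by
        refine (Nat.dvd_add_left (dvd_mul_right a u)).mp ?_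
        rw [mul_comm v b, hdecomp]
        exact dvd_mul_right a b
      have h2 := hcop.dvd_of_dvd_mul_right h1
      by_contra h3
      have h4 : a ≤ v := Nat.le_of_dvd (Nat.pos_of_ne_zero h3) h2
      have h5 : b * a ≤ b * v := Nat.mul_le_mul_left b h4
      have h6 : 0 < a * u := Nat.mul_pos (by omega) hu0
      rw [Nat.mul_comm b a] at h5
      omega
    have hu' : u = b := by
      rw [hv0, mul_zero, zero_add] at hdecomp
      exact Nat.eq_of_mul_eq_mul_left (by omega) hdecomp
    -- the constituents are twists of `φ`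
    have htwist : ∀ ρ : Cfsg.IrrCharacter G, c ρ ≠ 0 →
        ∀ m ∈ M, (ρ : G → ℂ) m = (φ : G → ℂ) m := by
      intro ρ hρ m hm
      have hρa : Cfsg.charDegree (ρ : G → ℂ) = a := by
        rcases hdeg ρ with h | h | h
        · exact absurd (hc1 ρ h) hρ
        · exact h
        · exact absurd (Finset.sum_eq_zero_iff.mp hv0 ρ
            (Finset.mem_filter.mpr ⟨Finset.mem_univ _, h⟩)) hρ
      choose c' hc' using fun π : Cfsg.IrrCharacter G =>
        IsChar.classInner_eq_natCast (isCharacter_mul (conjIrr φ) ρ) (IsIrr.isCharacter π.2)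
      have hσ : Cfsg.classInner (σ : G → ℂ) (fun g => (conjIrr φ : G → ℂ) g * (ρ : G → ℂ) g) ≠ 0 := by
        have h := hc ρ
        rw [inner_mul_left] at h
        simp only [conjIrr_apply]
        rw [h]; exact Nat.cast_ne_zero.mpr hρ
      have hc'σ : c' σ ≠ 0 := fun h => hσ (by
        rw [← classInner_conj_symm, hc', h, Nat.cast_zero, map_zero])
      by_contra hmne
      have hc'1 : ∀ π : Cfsg.IrrCharacter G, Cfsg.charDegree (π : G → ℂ) = 1 → c' π = 0 := by
        intro π hπ
        obtain ⟨l, hl⟩ := exists_hom_of_degree_one π hπ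
        have h := hc' π
        rw [inner_mul_left, show (fun g => conj ((conjIrr φ : G → ℂ) g) * (π : G → ℂ) g) =
          ((twist φ l : Cfsg.IrrCharacter G) : G → ℂ) from funext fun g => by
            rw [twist_apply, conjIrr_apply, Complex.conj_conj, hl],
          classInner_irr, if_neg fun he => ?_] at h
        · exact_mod_cast h.symm
        · apply hmne
          rw [he, twist_apply, show l m = 1 from MonoidHom.mem_ker.mp
            (Abelianization.commutator_subset_ker l (hMG hm)), Units.val_one, mul_one]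
      have hd2 : ∑ π, c' π * Cfsg.charDegree (π : G → ℂ) = a * a := by
        have h := apply_eq_sum (isCharacter_mul (conjIrr φ) ρ) hc' 1
        simp only [conjIrr_apply, ← cast_irrDegree, hφa, hρa, Complex.conj_natCast] at h
        exact_mod_cast h.symm
      have hsplit' : ∀ π : Cfsg.IrrCharacter G, c' π * Cfsg.charDegree (π : G → ℂ) =
          (if π ∈ B then b * c' π else a * c' π) := by
        intro π
        by_cases hπ : π ∈ B
        · rw [if_pos hπ, (Finset.mem_filter.mp hπ).2, mul_comm]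
        · rw [if_neg hπ]
          rcases hdeg π with h | h | h
          · rw [hc'1 π h, mul_zero, zero_mul]
          · rw [h, mul_comm]
          · exact absurd (show π ∈ B from Finset.mem_filter.mpr ⟨Finset.mem_univ _, h⟩) hπ
      simp only [hsplit', Finset.sum_ite] at hd2
      rw [← Finset.mul_sum, ← Finset.mul_sum, Finset.filter_mem_eq_inter, Finset.univ_inter] at hd2
      have hσB : σ ∈ B := Finset.mem_filter.mpr ⟨Finset.mem_univ _, hσb⟩
      have h1 : a ∣ (∑ π ∈ B, c' π) * b := by
        refine (Nat.dvd_add_left (dvd_mul_right a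
          (∑ π ∈ Finset.univ.filter (fun π => π ∉ B), c' π))).mp ?_
        rw [mul_comm _ b, hd2]
        exact dvd_mul_right a a
      have h2 : a ≤ ∑ π ∈ B, c' π := Nat.le_of_dvd
        (lt_of_lt_of_le (Nat.pos_of_ne_zero hc'σ)
          (Finset.single_le_sum (fun _ _ => Nat.zero_le _) hσB)) (hcop.dvd_of_dvd_mul_right h1)
      have h3 : b * a ≤ b * ∑ π ∈ B, c' π := Nat.mul_le_mul_left b h2
      have h4 : a * a < b * a := Nat.mul_lt_mul_of_pos_right hab (by omega)
      omega
    -- on `M` the product is `b φ`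
    have hval : ∀ m ∈ M, (φ : G → ℂ) m * (σ : G → ℂ) m = (b : ℂ) * (φ : G → ℂ) m := by
      intro m hm
      rw [apply_eq_sum (isCharacter_mul φ σ) hc m,
        Finset.sum_congr rfl (g := fun ρ => (c ρ : ℂ) * (φ : G → ℂ) m) fun ρ _ => by
          by_cases hρ : c ρ = 0
          · rw [hρ, Nat.cast_zero, zero_mul, zero_mul]
          · rw [htwist ρ hρ m hm],
        ← Finset.sum_mul, ← Nat.cast_sum]
      congr 2
      rw [← hu', hu, Finset.sum_filter]
      refine Finset.sum_congr rfl fun ρ _ => ?_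
      by_cases h : ρ ∈ B
      · simp [h, Finset.sum_eq_zero_iff.mp hv0 ρ h]
      · simp [h]
    have hvan : ∀ m ∈ M, m ≠ 1 → (φ : G → ℂ) m = 0 := by
      intro m hm hm1
      by_contra h0
      refine hm1 ?_
      rw [← Subgroup.mem_bot, ← hfaith σ hσM, mem_kerSubgroup, ← cast_irrDegree, hσb]
      exact mul_left_cancel₀ h0 (by rw [hval m hm, mul_comm])
    obtain ⟨m, hm, hm1⟩ := (Subgroup.bot_or_exists_ne_one M).resolve_left hne
    have htriv : Cfsg.classInner (fun x : M => (φ : G → ℂ) x)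
        ((trivChar M : Cfsg.IrrCharacter M) : M → ℂ) ≠ 0 := by
      rw [Cfsg.classInner, Finset.sum_eq_single (1 : M)
        (fun x _ hx => by rw [hvan x x.2 (fun h => hx (Subtype.ext h)), zero_mul])
        (fun h => absurd (Finset.mem_univ _) h)]
      simp only [trivChar, map_one, mul_one, OneMemClass.coe_one]
      exact mul_ne_zero (inv_ne_zero (Nat.cast_ne_zero.mpr Nat.card_pos.ne'))
        (IsIrr.apply_one_ne_zero φ.2)
    have hres := restrict_eq_smul_orbit_sum hM φ.2 (trivChar M).2 htriv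
    apply IsIrr.apply_one_ne_zero φ.2
    have e1 := congrFun hres ⟨m, hm⟩
    have e2 := congrFun hres 1
    simp only [Pi.smul_apply, Finset.sum_apply, OneMemClass.coe_one] at e1 e2
    rw [e2, ← hvan m hm hm1, e1]
    congr 1
    refine Finset.sum_congr rfl fun f hf => ?_
    obtain ⟨g, -, rfl⟩ := Finset.mem_image.mp hf
    rfl
  -- powers of `χ`
  obtain ⟨n, ρ, hρ, hρχ, hn⟩ := exists_rep χ
  have hinj : Function.Injective ρ := by
    rw [injective_iff_map_eq_one]
    intro g hg
    rw [← Subgroup.mem_bot, ← hfaith χ hχM, mem_kerSubgroup, ← hρχ]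
    simp [Representation.character, hg]
  obtain ⟨i, -, hi⟩ := Cfsg.Agent.S0168.result ρ hinj (ψ₀ : G → ℂ) ψ₀.2
  apply hi
  rw [hρχ]
  clear hi
  suffices key : ∀ k, ∀ σ : Cfsg.IrrCharacter G, Cfsg.charDegree (σ : G → ℂ) = b →
      ¬ M ≤ kerSubgroup σ → Cfsg.classInner (fun g => (χ : G → ℂ) g ^ k) (σ : G → ℂ) = 0 from
    key i ψ₀ hψ₀b hψ₀M
  intro k
  induction k with
  | zero =>
    intro σ hσb _
    simp only [pow_zero]
    rw [show (fun _ : G => (1 : ℂ)) = ((trivChar G : Cfsg.IrrCharacter G) : G → ℂ) from rfl,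
      classInner_irr, if_neg]
    intro h
    have h1 : Cfsg.charDegree ((trivChar G : Cfsg.IrrCharacter G) : G → ℂ) = 1 := charDegree_one
    rw [h, hσb] at h1
    omega
  | succ k ih =>
    intro σ hσb hσM
    have hk : Cfsg.IsCharacter G fun g => (χ : G → ℂ) g ^ k := by
      clear ih
      induction k with
      | zero => simpa using isCharacter_one
      | succ k ih' => simpa [pow_succ, Pi.mul_def] using IsChar.mul ih' (IsIrr.isCharacter χ.2)
    rw [show (fun g => (χ : G → ℂ) g ^ (k + 1)) = ∑ τ : Cfsg.IrrCharacter G,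
        Cfsg.classInner (fun g => (χ : G → ℂ) g ^ k) (τ : G → ℂ) •
          fun g => (χ : G → ℂ) g * (τ : G → ℂ) g from funext fun g => by
      have h := congrFun (classFunction_eq_sum (IsChar.isClassFunction hk)) g
      simp only [Finset.sum_apply, Pi.smul_apply, smul_eq_mul] at h ⊢
      rw [pow_succ, h, Finset.sum_mul]
      exact Finset.sum_congr rfl fun τ _ => by ring,
      classInner_sum_left]
    refine Finset.sum_eq_zero fun τ _ => ?_
    rw [classInner_smul_left]
    by_cases hτM : M ≤ kerSubgroup τ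
    · rw [hsep χ τ σ hτM hχa hχM hσb hσM, mul_zero]
    rcases hdeg τ with hτ | hτ | hτ
    · exact absurd (fun m hm => mem_kerSubgroup.mpr (le_ker_of_degree_one τ hτ (hMG hm))) hτM
    · -- `[χ τ, σ] = [τ, χ̄ σ]`, and `χ̄ σ` has no constituent of degree `a`
      refine mul_eq_zero_of_right _ ?_
      rw [inner_mul_left, ← classInner_conj_symm]
      refine (map_eq_zero (starRingEnd ℂ)).mpr ?_
      have hka : kerSubgroup (conjIrr χ) = kerSubgroup χ := by
        ext g
        rw [mem_kerSubgroup, mem_kerSubgroup, conjIrr_apply, conjIrr_apply]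
        exact (starRingEnd ℂ).injective.eq_iff
      have h := hprod (conjIrr χ) σ τ (charDegree_eq_of_apply_one (by
        rw [conjIrr_apply, ← cast_irrDegree, hχa, Complex.conj_natCast])) (hka ▸ hχM) hσb hσM hτ
      simpa only [conjIrr_apply] using h
    · rw [ih τ hτ hτM, zero_mul]

end CfsgLib.ThreeDegrees
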